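import Cfsg.Agent.Lib.Sporadic.FiTransfer.PairTwo.Large
import Cfsg.Agent.Lib.ThreeTransp.Simplicity

/-!
# The centraliser in the automorphism group of a product of two commuting members, type M(22)
-/

set_option autoImplicit false
set_option maxRecDepth 100000

open Cfsg.Spor
open CfsgLib.Sporadic.CosetCert CfsgLib.Sporadic.CosetCert.FiP CfsgLib.Sporadic.CosetCert.FiP.OutFi22
open CfsgLib.Sporadic.CosetCert.FiData (table)

namespace CfsgLib.Sporadic.FiTransfer.PairTwo

attribute [local irreducible] PTab.img symAt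

theorem classTr_eq_range : classTr = Set.range dp := by
  have e : FiP.tr = dp pt := by rw [dp_pt]; exact (coding.gen_code Fi22.Gen.a).symm
  ext y
  constructor
  · intro hy
    obtain ⟨g, rfl⟩ := isConj_iff.1 hy
    exact ⟨hom g pt, by rw [← conj_dp, ← e]⟩
  · rintro ⟨p, rfl⟩
    obtain ⟨c, rfl⟩ := transitive p
    rw [← conj_dp, ← e]
    exact classTr_conj mem_classTr_self

theorem commuting_trans {p q : Fin table.N} (hne : q ≠ p) (h : hom (dp p) q = q) :
    ∃ g : Fi22, hom g pt = p ∧ hom g (gpt 2) = q := by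
  classical
  obtain ⟨O₁, hO₁, e₁, hc₁⟩ := suborbit (b := 6) (by decide +kernel) FiData.search693_ok
  obtain ⟨O₂, hO₂, e₂, hc₂⟩ := suborbit (b := 1) (by decide +kernel) FiData.search2816_ok
  rw [show FiData.search693.length = 692 by decide +kernel] at hc₁
  rw [show FiData.search2816.length = 2815 by decide +kernel] at hc₂
  have hp₁ : pt ∉ O₁ := by
    rw [e₁, PTab.mem_maskSet]
    show ¬ Nat.testBit _ 0 = true
    decide +kernel
  have hp₂ : pt ∉ O₂ := by
    rw [e₂, PTab.mem_maskSet]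
    show ¬ Nat.testBit _ 0 = true
    decide +kernel
  have hdisj : Disjoint O₁ O₂ := by
    refine disjoint_of_not_mem _ _ hO₁ hO₂ ?_
    rw [e₁, PTab.mem_maskSet]
    show ¬ Nat.testBit _ 1 = true
    decide +kernel
  have huniv : insert pt (O₁ ∪ O₂) = Finset.univ := by
    refine Finset.eq_univ_of_card _ ?_
    rw [Finset.card_insert_of_notMem (by simp [hp₁, hp₂]), Finset.card_union_of_disjoint hdisj,
      hc₁, hc₂, Fintype.card_fin]
    rfl
  have h1 : table.imgW [0] 1 ≠ 1 := by decide +kernel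
  obtain ⟨c, rfl⟩ := transitive p
  have hq : hom (coding.gen 0) (hom c⁻¹ q) = hom c⁻¹ q := by
    rw [← conj_dp c pt, dp_pt, map_mul, map_mul, Equiv.Perm.mul_apply, Equiv.Perm.mul_apply] at h
    have h' := congrArg (hom c⁻¹) h
    rwa [hom_inv_apply] at h'
  have hmem : hom c⁻¹ q ∈ O₁ := by
    have hx : hom c⁻¹ q ∈ insert pt (O₁ ∪ O₂) := huniv ▸ Finset.mem_univ _
    rw [Finset.mem_insert, Finset.mem_union] at hx
    rcases hx with hx | hx | hx
    · exfalso
      apply hne
      rw [← hx, ← Equiv.Perm.mul_apply, ← map_mul, mul_inv_cancel, map_one, Equiv.Perm.one_apply]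
    · exact hx
    · exfalso
      rw [← Finset.mem_coe, hO₂] at hx
      obtain ⟨⟨π, hπ⟩, he⟩ := hx
      obtain ⟨k, hk, rfl⟩ := Subgroup.mem_map.1 hπ
      have he' : hom k _ = hom c⁻¹ q := he
      rw [← he', ← Equiv.Perm.mul_apply, ← map_mul, ← (gen_zero_comm hk).eq, map_mul,
        Equiv.Perm.mul_apply, (hom k).injective.eq_iff, gen_fix_iff (by norm_num)] at hq
      exact h1 hq
  have h2 : gpt 2 ∈ O₁ := by
    rw [e₁, PTab.mem_maskSet, gpt_two_val]
    decide +kernel
  rw [← Finset.mem_coe, hO₁] at hmem h2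
  rw [← MulAction.orbit_eq_iff.2 h2] at hmem
  obtain ⟨⟨π, hπ⟩, he⟩ := hmem
  obtain ⟨k, hk, rfl⟩ := Subgroup.mem_map.1 hπ
  refine ⟨c * k, ?_, ?_⟩
  · rw [map_mul, Equiv.Perm.mul_apply, hom_fix k hk]
  · rw [map_mul, Equiv.Perm.mul_apply, show hom k (gpt 2) = hom c⁻¹ q from he, ← Equiv.Perm.mul_apply,
      ← map_mul, mul_inv_cancel, map_one, Equiv.Perm.one_apply]

/-- A model isomorphism sending a given commuting pair to two standard generators. -/
theorem exists_adapted {G : Type*} [Group G] {D : Set G} (h : ModelIso G D) {a d : G} (ha : a ∈ D)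
    (hd : d ∈ D) (hne : a ≠ d) (hc : Commute a d) :
    ∃ e : G ≃* Fi22, e a = coding.gen 0 ∧ e d = coding.gen 2 := by
  obtain ⟨e, he⟩ := h
  have hp := (mem_iff_of_image e he).1 ha
  have hq := (mem_iff_of_image e he).1 hd
  rw [classTr_eq_range] at hp hq
  obtain ⟨p, hp⟩ := hp
  obtain ⟨q, hq⟩ := hq
  obtain ⟨g, h0, h1⟩ := commuting_trans (p := p) (q := q) (fun h => hne (e.injective (by rw [← hp, ← hq, h])))
    (fix_iff_commute.2 (by rw [hp, hq]; exact (commute_iff e).2 hc))
  refine ⟨e.trans (MulAut.conj g⁻¹), ?_, ?_⟩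
  · show g⁻¹ * e a * g⁻¹⁻¹ = _
    rw [← hp, conj_dp, ← h0, hom_inv_apply, dp_pt]
  · show g⁻¹ * e d * g⁻¹⁻¹ = _
    rw [← hq, conj_dp, ← h1, hom_inv_apply, ← gen_eq_dp 2 (by norm_num)]

theorem large_congr {A B : Type*} [Group A] [Finite A] [Group B] [Finite B] (E : A ≃* B) {Q : Subgroup A}
    {R : Subgroup B} (hQR : Q.map E.toMonoidHom = R) (h : Cfsg.IsLargeExtraspecial R) :
    Cfsg.IsLargeExtraspecial Q := by
  obtain ⟨h1, h2, h3, h4⟩ := h
  have hinj : Function.Injective E.toMonoidHom := E.injective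
  let e : Q ≃* R := (Q.equivMapOfInjective E.toMonoidHom hinj).trans (MulEquiv.subgroupCongr hQR)
  have he : ∀ x : Q, (e x : B) = E x := fun x => rfl
  have hcen : ∀ x : Q, x ∈ Subgroup.center Q ↔ e x ∈ Subgroup.center R := by
    intro x
    rw [Subgroup.mem_center_iff, Subgroup.mem_center_iff]
    constructor
    · intro hx y
      obtain ⟨y, rfl⟩ := e.surjective y
      rw [← map_mul, ← map_mul, hx y]
    · intro hx y
      exact e.injective (by rw [map_mul, map_mul]; exact hx (e y))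
  have hZ : ((Subgroup.center Q).map Q.subtype).map E.toMonoidHom = (Subgroup.center R).map R.subtype := by
    ext y
    constructor
    · rintro ⟨_, ⟨x, hx, rfl⟩, rfl⟩
      exact ⟨e x, (hcen x).1 hx, rfl⟩
    · rintro ⟨z, hz, rfl⟩
      obtain ⟨x, rfl⟩ := e.surjective z
      exact ⟨x.1, ⟨x, (hcen x).2 hz, rfl⟩, (he x).symm⟩
  have hC : ∀ S : Subgroup A, (Subgroup.centralizer (S : Set A)).map E.toMonoidHom =
      Subgroup.centralizer ((S.map E.toMonoidHom : Subgroup B) : Set B) := by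
    intro S
    ext y
    obtain ⟨x, rfl⟩ := E.surjective y
    rw [show E x = E.toMonoidHom x from rfl, Subgroup.mem_map_iff_mem hinj, Subgroup.mem_centralizer_iff,
      Subgroup.mem_centralizer_iff]
    constructor
    · rintro hx _ ⟨s, hs, rfl⟩
      rw [← map_mul, ← map_mul, hx s hs]
    · intro hx s hs
      exact hinj (by rw [map_mul, map_mul]; exact hx _ ⟨s, hs, rfl⟩)
  refine ⟨CfsgLib.ThreeTransp.Simplicity.isExtraspecial_of_equiv e.symm h1, ?_, ?_, ?_⟩
  · apply Subgroup.map_injective hinj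
    rw [hC, hQR, hZ, h2]
  · rw [← Subgroup.map_le_map_iff_of_injective hinj, hC, hZ]
    refine h3.trans (le_of_eq ?_)
    rw [← hQR]
    exact (Subgroup.map_equiv_normalizer_eq Q E).symm
  · intro K hK hn
    apply Subgroup.map_injective hinj
    rw [Subgroup.map_bot]
    refine h4 _ (by rwa [Subgroup.card_map_of_injective hinj]) ?_
    rw [← hQR, ← show _ = Subgroup.normalizer ((K.map E.toMonoidHom : Subgroup B) : Set B) from
      Subgroup.map_equiv_normalizer_eq K E]
    exact Subgroup.map_mono hn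

/-- The conclusion of the statement about the centraliser of a product of two commuting members. -/
theorem pair_two {G : Type*} [Group G] {D : Set G} (h : ModelIso G D) (d₁ d₂ : G) (h₁ : d₁ ∈ D)
    (h₂ : d₂ ∈ D) (hne : d₁ ≠ d₂) (hc : Commute d₁ d₂) (j : MulAut G) (hj : j = MulAut.conj (d₁ * d₂))
    (Q : Subgroup (MulAut G))
    (hQ : Q = (Cfsg.generalizedFittingSubgroup ↥(Subgroup.centralizer ({j} : Set (MulAut G)))).map
      (Subgroup.centralizer ({j} : Set (MulAut G))).subtype) :
    Cfsg.IsLargeExtraspecial Q ∧ Nat.card Q = 2 ^ 11 ∧ Q ≤ Subgroup.centralizer ({j} : Set (MulAut G)) ∧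
      ∃ (_ : (Q.subgroupOf (Subgroup.centralizer ({j} : Set (MulAut G)))).Normal) (F : Type) (_ : Field F)
        (_ : Fintype F), Fintype.card F = 4 ∧
        Nonempty (↥(Subgroup.centralizer ({j} : Set (MulAut G))) ⧸
          Q.subgroupOf (Subgroup.centralizer ({j} : Set (MulAut G))) ≃* MulAut (Cfsg.PSU 4 F 2)) := by
  obtain ⟨e, ea, ed⟩ := exists_adapted h h₁ h₂ hne hc
  have := finite_aut
  let E : MulAut G ≃* MulAut Fi22 := MulAut.congr e
  have : Finite (MulAut G) := Finite.of_equiv _ E.symm.toEquiv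
  have hEj : E j = jA := by
    refine MulEquiv.ext fun x => ?_
    rw [hj, jA, MulAut.conj_apply, ← ea, ← ed, ← map_mul]
    show e (d₁ * d₂ * e.symm x * (d₁ * d₂)⁻¹) = _
    rw [map_mul, map_mul, e.apply_symm_apply, map_inv]
  set C := Subgroup.centralizer ({j} : Set (MulAut G)) with hC
  have hmap : C.map E.toMonoidHom = cenA := by
    ext y
    obtain ⟨x, rfl⟩ := E.surjective y
    rw [show E x = E.toMonoidHom x from rfl, Subgroup.mem_map_iff_mem E.injective, hC, cenA,
      Subgroup.mem_centralizer_singleton_iff, Subgroup.mem_centralizer_singleton_iff, ← hEj]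
    exact ⟨fun hx => by simpa using congrArg E hx, fun hx => E.injective (by simpa using hx)⟩
  let ι : C ≃* cenA := (C.equivMapOfInjective E.toMonoidHom E.injective).trans (MulEquiv.subgroupCongr hmap)
  let φ := psi.comp ι.toMonoidHom
  have hFit := fitting_eq ι
  rw [hFit] at hQ
  have hQle : Q ≤ C := hQ ▸ Subgroup.map_subtype_le _
  have hQE : Q.map E.toMonoidHom = bigQ := by
    rw [bigQ_eq.1, hQ]
    ext y
    constructor
    · rintro ⟨_, ⟨x, hx, rfl⟩, rfl⟩
      exact ⟨ι x, hx, rfl⟩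
    · rintro ⟨z, hz, rfl⟩
      obtain ⟨x, rfl⟩ := ι.surjective z
      exact ⟨x.1, ⟨x, hz, rfl⟩, rfl⟩
  have hsub : Q.subgroupOf C = φ.ker := by
    rw [hQ]
    exact Subgroup.comap_map_eq_self_of_injective C.subtype_injective _
  refine ⟨large_congr E hQE bigQ_large, ?_, hQle, ?_⟩
  · rw [← Subgroup.card_map_of_injective (f := E.toMonoidHom) E.injective, hQE, bigQ_eq.2.1]
    norm_num
  have hn : (Q.subgroupOf C).Normal := hsub ▸ φ.normal_ker
  let F := GaloisField 2 2
  letI : Fintype F := Fintype.ofFinite F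
  have hF : Fintype.card F = 4 := by
    rw [← Nat.card_eq_fintype_card, GaloisField.card 2 2 two_ne_zero]; norm_num
  refine ⟨hn, F, inferInstance, inferInstance, hF, ?_⟩
  obtain ⟨θ⟩ := range_iso (F := F) hF
  have hr : φ.range = psi.range := by
    rw [MonoidHom.range_comp, MonoidHom.range_eq_top.2 ι.surjective, MonoidHom.range_eq_map]
  exact ⟨(QuotientGroup.quotientMulEquivOfEq hsub).trans <| (QuotientGroup.quotientKerEquivRange φ).trans <|
    (MulEquiv.subgroupCongr hr).trans θ⟩

end CfsgLib.Sporadic.FiTransfer.PairTwo
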