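import Cfsg.Agent.Lib.Sporadic.FiTransfer.PairTwo.Auto
import Cfsg.Agent.Lib.Classical.PSpThree.Data

/-!
# Kernel checks for the centraliser of a product of two commuting transpositions
-/

set_option autoImplicit false
set_option maxRecDepth 100000

namespace CfsgLib.Sporadic.FiTransfer.PairTwo

open CosetCert CosetCert.FiP.OutFi22 FiData
open CfsgLib.Classical.PSpThree (perms)

/-- The element with no word. -/
def noW : List ℕ × Bool := ([], false)

/-- The product of the two transpositions as an automorphism. -/
def jW : List ℕ × Bool := ([2, 0], false)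

theorem sPts_len : sPts.length = 180 := by decide +kernel

theorem sPts_nodup : sPts.Nodup := by decide +kernel

theorem sPts_lt : ∀ i < 180, sPts.getD i 3510 < 3510 := by decide +kernel

theorem sPts_fix : sPts.all (fun q =>
    Nat.beq (table.imgW [0] q) q && Nat.beq (table.imgW [2] q) q && !(Nat.beq q 0) && !(Nat.beq q 6)) = true := by
  decide +kernel

theorem prod_scan : (List.range 3510).all (fun q =>
    !(Nat.beq (table.imgW [2, 0] q) q) || Nat.beq q 0 || Nat.beq q 6 || sPts.contains q) = true := by
  decide +kernel

theorem six_sym : table.imgW [2] 0 = 0 ∧ table.imgW [0] 6 = 6 := by decide +kernel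

theorem fix_triple : fixN (fun v => table.imgW [2, 0, 4] v) ≠ 694 := by decide +kernel

theorem gW_lt : ∀ w ∈ gW, ∀ x ∈ w, x < 9 := by decide +kernel

theorem gW_fix : ∀ w ∈ gW, table.imgW w 0 = 0 ∧ table.imgW w 6 = 6 := by decide +kernel

theorem half_ok : (List.range 7).all (fun x =>
    halfK (genPt.getD x 3510) (genHalf.getD x ([], 0)) &&
      decide (fullWord (genHalf.getD x ([], 0)) = gW.getD (x + 2) [])) = true := by
  decide +kernel

theorem cGens_lt : ∀ w ∈ cGens, ∀ x ∈ w.1, x < 9 := by decide +kernel

theorem cGens_pair : ∀ w ∈ cGens,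
    (imgA w 0 = 0 ∧ imgA w 6 = 6) ∨ (imgA w 0 = 6 ∧ imgA w 6 = 0) := by decide +kernel

theorem swaps : imgA (cGens.getD 9 noW) 0 = 6 ∧ imgA (cGens.getD 9 noW) 6 = 0 ∧
    imgA (cGens.getD 10 noW) 0 = 6 ∧ imgA (cGens.getD 10 noW) 6 = 0 := by decide +kernel

theorem pos_ok : (List.range 11).all (fun g => (List.range 180).all fun i =>
    Nat.blt ((posImg.getD g []).getD i 180) 180 &&
      Nat.beq (imgA (cGens.getD g noW) (sPts.getD i 3510)) (sPts.getD ((posImg.getD g []).getD i 180) 3510) &&
      (memb.getD i []).all (fun k =>
        (memb.getD ((posImg.getD g []).getD i 180) []).contains ((sig.getD g []).getD k 40))) = true := by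
  decide +kernel

theorem sig_perm : (List.range 11).all (fun g =>
    decide ((sig.getD g []).length = 40) && decide (sig.getD g []).Nodup &&
      (sig.getD g []).all (fun k => Nat.blt k 40)) = true := by
  decide +kernel

theorem memb_ok : (List.range 180).all (fun i =>
    decide ((memb.getD i []).Nodup) && (memb.getD i []).all (fun k => Nat.blt k 40)) = true := by
  decide +kernel

theorem memb_count : (List.range 40).all (fun k =>
    Nat.beq ((List.range 180).countP fun i => (memb.getD i []).contains k) 36) = true := by
  decide +kernel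

theorem memb_sep : (List.range 40).all (fun a => (List.range 40).all fun b =>
    Nat.beq a b || (List.range 180).any fun i =>
      (memb.getD i []).contains a && !((memb.getD i []).contains b)) = true := by
  decide +kernel

theorem searchS_len : searchS.length = 179 := by decide +kernel

theorem searchS_ok : (table.bfsW (gW.drop 2) searchS (2 ^ 40)).isSome = true := by decide +kernel

theorem searchS_sub : searchS.all (fun e => sPts.contains e.1) = true := by decide +kernel

theorem chainC_ok : table.chainWOK (chainC.map fun e =>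
    (e.1, e.2.1.map (fun w => (w.map fun k => gW.getD k []).flatten), e.2.2)) [] = true := by
  decide +kernel

theorem chainC_prod : PTab.chainWProd (chainC.map fun e =>
    (e.1, e.2.1.map (fun w => (w.map fun k => gW.getD k []).flatten), e.2.2)) = 26542080 := by
  decide +kernel

/-- The generators of the group on the forty, as numbers of the generators of the centraliser. -/
def g40Ix : List ℕ := [2, 3, 4, 5, 6, 7, 8, 9]

theorem tab40_agree : ∀ x : Fin 8, ∀ k : Fin 40,
    tab40.img x k = (sig.getD (g40Ix.getD x 0) []).getD k 40 := by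
  decide +kernel

theorem tab40_slp : tab40.slpOK = true := by decide +kernel

theorem chain40_ok : tab40.chainOK chain40 [] = true := by decide +kernel

theorem chain40_prod : PTab.chainProd chain40 = 51840 := by decide +kernel

theorem permsW_ok : ∀ v k : Fin 40,
    (permsW.getD v []).all (fun x => Nat.blt x 7) = true ∧
      (permsW.getD v []).foldl (fun u x => (sig.getD (x + 2) []).getD u 40) (k : ℕ) = perms v k := by
  decide +kernel

/-- A product of transvections on the forty, in order of application. -/
def permsFold (L : List ℕ) (k : Fin 40) : Fin 40 :=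
  L.foldl (fun u v => perms ⟨v % 40, Nat.mod_lt _ (by norm_num)⟩ u) k

theorem sigW_ok : ∀ x : Fin 7, ∀ k : Fin 40,
    (sigW.getD x []).all (fun v => Nat.blt v 40) = true ∧
      ((permsFold (sigW.getD x []) k : Fin 40) : ℕ) = (sig.getD (x + 2) []).getD k 40 := by
  decide +kernel

theorem conjIx_lt : ∀ v : Fin 40, conjIx.getD v 40 < 40 := by decide +kernel

/-- The tenth generator on the forty. -/
def u40 (k : Fin 40) : Fin 40 := ⟨(sig.getD 9 []).getD k 0 % 40, Nat.mod_lt _ (by norm_num)⟩

theorem conj40 : ∀ v k : Fin 40,
    u40 (perms v (u40 (perms ⟨conjIx.getD v 0 % 40, Nat.mod_lt _ (by norm_num)⟩ k))) = k := by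
  decide +kernel

theorem fix40 : ∀ u t : Fin 40, u ≠ t → ∃ v : Fin 40, perms v u = u ∧ perms v t ≠ t := by decide +kernel

theorem qW_lt : ∀ w ∈ qW, ∀ x ∈ w.1, x < 9 := by decide +kernel

theorem qW_len : qW.length = 10 := by decide +kernel

theorem qW_triv : qW.all (fun w => (List.range 180).all fun i =>
    let v := imgA w (sPts.getD i 3510)
    let m := memb.getD i []
    (List.range 180).any fun i' => Nat.beq (sPts.getD i' 3510) v && decide (memb.getD i' [] = m)) = true := by
  decide +kernel

theorem q_square : ∀ i : Fin 10, sameA [qW.getD i noW, qW.getD i noW] [] = true := by decide +kernel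

theorem q_gram : ∀ i k : Fin 10,
    sameA [qW.getD k noW, qW.getD i noW]
      (bif (qM.getD i []).getD k false then [jW, qW.getD i noW, qW.getD k noW]
        else [qW.getD i noW, qW.getD k noW]) = true := by
  decide +kernel

theorem q_rank : ∀ v : Fin 10 → Bool,
    (∀ k : Fin 10, ((List.finRange 10).foldl (fun acc i => xor acc (v i && (qM.getD i []).getD k false))
      false) = false) → ∀ i, v i = false := by
  decide +kernel

theorem q_first : qW.getD 0 noW = ([0], false) ∧ qW.getD 2 noW = ([6, 4], false) ∧
    qW.getD 1 noW = cGens.getD 10 noW := by decide +kernel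

theorem j_central : sameA [jW, jW] [] = true ∧ ∀ i : Fin 10,
    sameA [jW, qW.getD i noW] [qW.getD i noW, jW] = true := by
  decide +kernel

theorem witness : sameA [qW.getD 1 noW, cGens.getD 2 noW] [cGens.getD 2 noW, qW.getD 1 noW] = false ∧
    sameA [qW.getD 1 noW, cGens.getD 2 noW] [jW, cGens.getD 2 noW, qW.getD 1 noW] = false := by
  decide +kernel

theorem pairHalf_ok : pairHalf.all (fun e => halfK e.1 e.2) = true := by decide +kernel

theorem pairG_lt : ∀ w ∈ pairG, ∀ x ∈ w, x < 9 := by decide +kernel

theorem pair_eqs :
    table.imgW (pairG.getD 0 []) 0 = 40 ∧ table.imgW (pairG.getD 0 []) 6 = 154 ∧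
      table.imgW (pairG.getD 0 []) 40 = 0 ∧ table.imgW (pairG.getD 0 []) 154 = 6 ∧
      table.imgW (pairG.getD 1 []) 0 = 3399 ∧ table.imgW (pairG.getD 1 []) 6 = 3400 ∧
      table.imgW (pairG.getD 1 []) 43 = 0 ∧ table.imgW (pairG.getD 1 []) 637 = 6 := by
  decide +kernel

/-- The word of the product of two of the six transpositions. -/
noncomputable def pairW (a b : ℕ) : List ℕ × Bool :=
  (fullWord (pairHalf.getD b (0, [], 0)).2 ++ fullWord (pairHalf.getD a (0, [], 0)).2, false)

theorem pair_words : sameA [pairW 0 1] [qW.getD 2 noW] = true ∧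
    sameA [pairW 2 3] [qW.getD 2 noW, jW] = true ∧
    sameA [pairW 4 5] [qW.getD 4 noW, qW.getD 2 noW, qW.getD 0 noW, jW] = true := by
  decide +kernel

end CfsgLib.Sporadic.FiTransfer.PairTwo
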