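import Cfsg.Agent.Lib.Sporadic.FiTransfer.PairTwo.Kernel
import Cfsg.Agent.Lib.KGroups.CharP
import Cfsg.Agent.Lib.LocalEvenB.CoreFunctor
import Cfsg.Prelude.Def_MonsterType

/-!
# The kernel is a large extraspecial subgroup of the automorphism group
-/

set_option autoImplicit false
set_option maxRecDepth 100000

open Cfsg.Spor
open CfsgLib.Sporadic.CosetCert CfsgLib.Sporadic.CosetCert.FiP CfsgLib.Sporadic.CosetCert.FiP.OutFi22
open CfsgLib.Sporadic.CosetCert.FiData (table)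
open scoped commutatorElement

namespace CfsgLib.Sporadic.FiTransfer.PairTwo

attribute [local irreducible] PTab.img symAt

theorem cG_two_mem : psi (cGen 2) ∈ N40 := seven_mem (show 0 < 7 by norm_num)

theorem witness_ne : ∀ b, cG 2 * qA 1 ≠ jp b * (qA 1 * cG 2) := by
  obtain ⟨w1, w2⟩ := witness
  intro b h
  cases b
  · rw [show jp false = 1 from rfl, one_mul] at h
    refine ne_of_sameA (mem2 (qA_lt 1) (cG_lt 2)) (mem2 (cG_lt 2) (qA_lt 1)) w1 ?_
    rw [prodA_two, prodA_two]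
    exact h
  · refine ne_of_sameA (mem2 (qA_lt 1) (cG_lt 2)) (mem3 jW_lt (cG_lt 2) (qA_lt 1)) w2 ?_
    rw [prodA_two, prodA_three, ← jA_eq]
    refine h.trans ?_
    show jA * (qA 1 * cG 2) = qA 1 * cG 2 * jA
    exact (Subgroup.mem_centralizer_singleton_iff.1
      (mul_mem (qA_cen 1) (cG_mem 2) : qA 1 * cG 2 ∈ cenA)).symm

theorem central_of_centralizes {β : MulAut Fi22} (h : ∀ x ∈ bigQ, Commute β x) :
    β ∈ bigQ ∧ ∃ b, β = jp b := by
  have := finite_aut
  have hβ : β ∈ cenA := Subgroup.mem_centralizer_singleton_iff.2 (h _ jA_mem_bigQ).eq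
  obtain ⟨hq, -, -⟩ := bigQ_eq
  let Z : Subgroup cenA := Subgroup.centralizer (psi.ker : Set cenA)
  have hZn : Z.Normal := inferInstance
  have : (Z.map psi.rangeRestrict).Normal := hZn.map _ psi.rangeRestrict_surjective
  have hmemZ : (⟨β, hβ⟩ : cenA) ∈ Z := by
    rw [Subgroup.mem_centralizer_iff]
    intro x hx
    exact Subtype.ext (h x.1 (hq ▸ Subgroup.mem_map_of_mem _ hx)).eq.symm
  rcases normal_cases (Z.map psi.rangeRestrict) with hM | hM
  · have h1 : psi.rangeRestrict ⟨β, hβ⟩ ∈ (⊥ : Subgroup psi.range) := hM ▸ Subgroup.mem_map_of_mem _ hmemZ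
    rw [Subgroup.mem_bot] at h1
    have hb : β ∈ bigQ := hq ▸ ⟨⟨β, hβ⟩, congrArg Subtype.val h1, rfl⟩
    exact ⟨hb, central_cases hb fun k => (h _ (qA_mem_bigQ k)).eq⟩
  · exfalso
    obtain ⟨z, hz, e⟩ := hM (psi.rangeRestrict (cGen 2)) cG_two_mem
    have hk : z⁻¹ * cGen 2 ∈ psi.ker := by
      have e' : psi z = psi (cGen 2) := congrArg Subtype.val e
      rw [MonoidHom.mem_ker, map_mul, map_inv, e', inv_mul_cancel]
    have hq1 : (z⁻¹ * cGen 2).1 ∈ bigQ := hq ▸ ⟨_, hk, rfl⟩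
    have hq2 := qA_mem_bigQ 1
    obtain ⟨b, hb⟩ := comm_mod_j hq1 hq2
    have hc : z.1 * qA 1 = qA 1 * z.1 := by
      have h2 : qA 1 ∈ psi.ker.map cenA.subtype := hq ▸ hq2
      obtain ⟨y, hy, e⟩ := h2
      rw [← e]
      exact congrArg Subtype.val (Subgroup.mem_centralizer_iff.1 hz y hy).symm
    apply witness_ne b
    have hz' : jp b * z.1 = z.1 * jp b := by
      cases b
      · simp [jp]
      · exact (Subgroup.mem_centralizer_singleton_iff.1 z.2).symm
    calc cG 2 * qA 1 = z.1 * ((z⁻¹ * cGen 2).1 * qA 1) := by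
          show cG 2 * qA 1 = z.1 * ((z.1⁻¹ * cG 2) * qA 1); group
      _ = z.1 * (jp b * (qA 1 * (z.1⁻¹ * cG 2))) := by rw [hb]; rfl
      _ = z.1 * jp b * qA 1 * z.1⁻¹ * cG 2 := by group
      _ = jp b * (z.1 * qA 1) * z.1⁻¹ * cG 2 := by rw [← hz']; group
      _ = _ := by rw [hc]; group

theorem centralizer_bigQ :
    Subgroup.centralizer (bigQ : Set (MulAut Fi22)) = (Subgroup.center bigQ).map bigQ.subtype := by
  apply le_antisymm
  · intro β hβ
    obtain ⟨hb, -⟩ := central_of_centralizes fun x hx => (Subgroup.mem_centralizer_iff.1 hβ x hx).symm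
    exact ⟨⟨β, hb⟩, Subgroup.mem_center_iff.2 fun y =>
      Subtype.ext (Subgroup.mem_centralizer_iff.1 hβ y.1 y.2), rfl⟩
  · rintro _ ⟨z, hz, rfl⟩
    exact Subgroup.mem_centralizer_iff.2 fun y hy =>
      congrArg Subtype.val (Subgroup.mem_center_iff.1 hz ⟨y, hy⟩)

theorem normal_in_cen {β x : MulAut Fi22} (hβ : β ∈ cenA) (hx : x ∈ bigQ) : β * x * β⁻¹ ∈ bigQ := by
  obtain ⟨hq, -, -⟩ := bigQ_eq
  rw [hq] at hx ⊢
  obtain ⟨y, hy, rfl⟩ := hx
  refine ⟨_, psi.normal_ker.conj_mem y hy ⟨β, hβ⟩, ?_⟩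
  rw [map_mul, map_mul, map_inv]
  rfl

theorem cen_le_normalizer :
    Subgroup.centralizer (((Subgroup.center bigQ).map bigQ.subtype : Subgroup (MulAut Fi22)) :
      Set (MulAut Fi22)) ≤ Subgroup.normalizer (bigQ : Set (MulAut Fi22)) := by
  intro β hβ
  have := finite_aut
  have hj : jA ∈ (Subgroup.center bigQ).map bigQ.subtype :=
    ⟨⟨jA, jA_mem_bigQ⟩, Subgroup.mem_center_iff.2 fun y => Subtype.ext
      (Subgroup.mem_centralizer_singleton_iff.1 (jA_central y.2)), rfl⟩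
  have hc : β ∈ cenA :=
    Subgroup.mem_centralizer_singleton_iff.2 (Subgroup.mem_centralizer_iff.1 hβ _ hj).symm
  exact Subgroup.mem_normalizer_fintype fun x hx => normal_in_cen hc hx

theorem pairPt (a : ℕ) (ha : a < 6) : ∃ p : Fin table.N, (p : ℕ) = (pairHalf.getD a (0, [], 0)).1 ∧
    dp p = el (fullWord (pairHalf.getD a (0, [], 0)).2) ∧
    ∀ x ∈ fullWord (pairHalf.getD a (0, [], 0)).2, x < 9 := by
  have hlen : a < pairHalf.length := ha
  have hK := List.all_eq_true.1 pairHalf_ok _ (List.getElem_mem hlen)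
  rw [List.getD_eq_getElem _ _ hlen]
  have hlt : ∀ e ∈ pairHalf, e.1 < table.N := by decide +kernel
  exact ⟨⟨_, hlt _ (List.getElem_mem hlen)⟩, rfl,
    dp_of_half (p := ⟨(pairHalf[a]).1, hlt _ (List.getElem_mem hlen)⟩) hK, fullWord_lt hK⟩

/-- A pair: the image and the preimage of the two points under a word. -/
theorem pair_move {a b c d : ℕ} (ha : a < 6) (hb : b < 6) (hc : c < 6) (hd : d < 6) {L : List ℕ}
    (hL : ∀ x ∈ L, x < 9) (h0 : table.imgW L 0 = (pairHalf.getD a (0, [], 0)).1)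
    (h6 : table.imgW L 6 = (pairHalf.getD b (0, [], 0)).1)
    (h0' : table.imgW L (pairHalf.getD c (0, [], 0)).1 = 0)
    (h6' : table.imgW L (pairHalf.getD d (0, [], 0)).1 = 6) :
    MulAut.conj (el L) * jA * (MulAut.conj (el L))⁻¹ = autEl (pairW a b) ∧
      (MulAut.conj (el L))⁻¹ * jA * MulAut.conj (el L) = autEl (pairW c d) := by
  have hj : ∀ g : Fi22, g * (coding.gen 0 * coding.gen 2) * g⁻¹ = dp (hom g pt) * dp (hom g (gpt 2)) := by
    intro g
    rw [← conj_dp, ← conj_dp, dp_pt, ← gen_eq_dp 2 (by norm_num)]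
    group
  obtain ⟨pa, va, ea, -⟩ := pairPt a ha
  obtain ⟨pb, vb, eb, -⟩ := pairPt b hb
  obtain ⟨pc, vc, ec, -⟩ := pairPt c hc
  obtain ⟨pd, vd, ed, -⟩ := pairPt d hd
  constructor
  · rw [jA, ← map_inv, ← map_mul, ← map_mul, hj, pairW, autEl_false, el_append]
    have e0 : hom (el L) pt = pa := Fin.ext (by rw [el_img hL, va]; exact h0)
    have e6 : hom (el L) (gpt 2) = pb := Fin.ext (by rw [el_img hL, gpt_two_val, vb, h6])
    rw [e0, e6, ea, eb]
  · have e : (MulAut.conj (el L))⁻¹ * jA * MulAut.conj (el L) =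
        MulAut.conj ((el L)⁻¹ * (coding.gen 0 * coding.gen 2) * (el L)⁻¹⁻¹) := by
      rw [inv_inv, map_mul _ _ (el L), map_mul _ ((el L)⁻¹), map_inv]; rfl
    rw [e, hj, pairW, autEl_false, el_append]
    have e0 : hom (el L)⁻¹ pt = pc := by
      have h : hom (el L) pc = pt := Fin.ext (by rw [el_img hL, vc]; exact h0')
      rw [← h, hom_inv_apply]
    have e6 : hom (el L)⁻¹ (gpt 2) = pd := by
      have h : hom (el L) pd = gpt 2 := Fin.ext (by rw [el_img hL, vd, gpt_two_val]; exact h6')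
      rw [← h, hom_inv_apply]
    rw [e0, e6, ec, ed]

theorem pairW_lt (a b : ℕ) (ha : a < 6) (hb : b < 6) : ∀ x ∈ (pairW a b).1, x < 9 := by
  intro x hx
  obtain ⟨-, -, -, la⟩ := pairPt a ha
  obtain ⟨-, -, -, lb⟩ := pairPt b hb
  rcases List.mem_append.1 hx with h | h
  exacts [lb x h, la x h]

theorem pair_elems : autEl (pairW 0 1) = qA 2 ∧ autEl (pairW 2 3) = jA * qA 2 ∧
    autEl (pairW 4 5) ∈ bigQ := by
  obtain ⟨h1, h2, h3⟩ := pair_words
  have s1 : ∀ (x : List ℕ × Bool), (∀ y ∈ x.1, y < 9) → ∀ w ∈ [x], ∀ y ∈ w.1, y < 9 := by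
    intro x hx w hw; rw [List.mem_singleton] at hw; rw [hw]; exact hx
  have e1 := eq_of_sameA (s1 _ (pairW_lt 0 1 (by norm_num) (by norm_num))) (s1 _ (qA_lt 2)) h1
  have e2 := eq_of_sameA (s1 _ (pairW_lt 2 3 (by norm_num) (by norm_num))) (mem2 (qA_lt 2) jW_lt) h2
  have e3 := eq_of_sameA (s1 _ (pairW_lt 4 5 (by norm_num) (by norm_num)))
    (B := [qW.getD 4 noW, qW.getD 2 noW, qW.getD 0 noW, jW]) (by
      intro w hw
      simp only [List.mem_cons, List.not_mem_nil, or_false] at hw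
      rcases hw with rfl | rfl | rfl | rfl
      exacts [qA_lt 4, qA_lt 2, qA_lt 0, jW_lt]) h3
  rw [prodA_single, prodA_single] at e1
  rw [prodA_single, prodA_two, ← jA_eq] at e2
  rw [prodA_single] at e3
  refine ⟨e1, e2, e3 ▸ ?_⟩
  simp only [prodA, one_mul, ← jA_eq]
  exact mul_mem (mul_mem (mul_mem jA_mem_bigQ (qA_mem_bigQ 0)) (qA_mem_bigQ 2)) (qA_mem_bigQ 4)

theorem odd_meets {K : Subgroup (MulAut Fi22)} (hK : Odd (Nat.card K)) {x : MulAut Fi22} {P : Subgroup (MulAut Fi22)}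
    (hP : IsPGroup 2 P) (hxK : x ∈ K) (hxP : x ∈ P) : x = 1 := by
  obtain ⟨n, hn⟩ := hP ⟨x, hxP⟩
  have h1 : orderOf x ∣ 2 ^ n := orderOf_dvd_of_pow_eq_one (congrArg Subtype.val hn)
  have h2 : orderOf (⟨x, hxK⟩ : K) ∣ Nat.card K := orderOf_dvd_natCard _
  rw [Subgroup.orderOf_mk] at h2
  exact orderOf_eq_one_iff.1
    ((Nat.Coprime.coprime_dvd_right h2 ((Nat.coprime_two_left.2 hK).pow_left n)).symm.eq_one_of_dvd h1)

theorem odd_trivial {K : Subgroup (MulAut Fi22)} (hK : Odd (Nat.card K))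
    (hn : bigQ ≤ Subgroup.normalizer (K : Set (MulAut Fi22))) : K = ⊥ := by
  have := finite_aut
  have hconj : ∀ q ∈ bigQ, ∀ x ∈ K, q * x * q⁻¹ ∈ K := fun q hq x hx =>
    (Subgroup.mem_normalizer_iff.1 (hn hq) x).1 hx
  have hfixj : ∀ x ∈ K, jA * x = x * jA → x = 1 := by
    intro x hx hc
    have hxC : x ∈ cenA := Subgroup.mem_centralizer_singleton_iff.2 hc.symm
    obtain ⟨-, b, hb⟩ := central_of_centralizes (β := x) fun q hq => by
      have h1 : x * q * x⁻¹ * q⁻¹ ∈ bigQ := mul_mem (normal_in_cen hxC hq) (inv_mem hq)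
      have h2 : x * q * x⁻¹ * q⁻¹ ∈ K := by
        have e : x * q * x⁻¹ * q⁻¹ = x * (q * x⁻¹ * q⁻¹) := by group
        rw [e]; exact mul_mem hx (hconj q hq _ (inv_mem hx))
      exact mul_inv_eq_iff_eq_mul.1 (mul_inv_eq_one.1 (odd_meets hK bigQ_pgroup h2 h1))
    exact odd_meets hK bigQ_pgroup hx (hb ▸ jp_mem b)
  have hinvj : ∀ x ∈ K, jA * x * jA⁻¹ = x⁻¹ :=
    LocalEvenB.CoreFunctor.inverts hK jA_sq (hconj jA jA_mem_bigQ) hfixj
  have fpf : ∀ (L : List ℕ) (u : MulAut Fi22), MulAut.conj (el L) * jA * (MulAut.conj (el L))⁻¹ = u →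
      (MulAut.conj (el L))⁻¹ * jA * MulAut.conj (el L) ∈ bigQ → ∀ x ∈ K, u * x = x * u → x = 1 := by
    intro L u hu hq x hx hc
    subst hu
    generalize MulAut.conj (el L) = γ at hq hc
    have hy : γ⁻¹ * x * γ ∈ cenA := Subgroup.mem_centralizer_singleton_iff.2 (by
      calc γ⁻¹ * x * γ * jA = γ⁻¹ * (x * (γ * jA * γ⁻¹)) * γ := by group
        _ = γ⁻¹ * (γ * jA * γ⁻¹ * x) * γ := by rw [hc]
        _ = jA * (γ⁻¹ * x * γ) := by group)
    have h1 := mul_mem (normal_in_cen hy hq) (inv_mem hq)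
    have e : γ⁻¹ * x * γ * (γ⁻¹ * jA * γ) * (γ⁻¹ * x * γ)⁻¹ * (γ⁻¹ * jA * γ)⁻¹ =
        γ⁻¹ * (x * x) * γ := by
      have h2 : jA * x⁻¹ * jA⁻¹ = x := by rw [hinvj x⁻¹ (inv_mem hx), inv_inv]
      conv_rhs => rw [show x * x = x * (jA * x⁻¹ * jA⁻¹) by rw [h2]]
      group
    rw [e] at h1
    have h3 : x * x ∈ bigQ.map (MulAut.conj γ).toMonoidHom := ⟨_, h1, by
      show γ * (γ⁻¹ * (x * x) * γ) * γ⁻¹ = _; group⟩
    have h4 : x * x = 1 := odd_meets hK (bigQ_pgroup.map _) (mul_mem hx hx) h3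
    refine odd_meets hK (P := Subgroup.zpowers x) ?_ hx (Subgroup.mem_zpowers x)
    obtain ⟨i, -, hi⟩ := (Nat.dvd_prime_pow Nat.prime_two).1 (show orderOf x ∣ 2 ^ 1 from
      orderOf_dvd_of_pow_eq_one (by rw [pow_one, pow_two, h4]))
    exact IsPGroup.of_card (n := i) (by rw [Nat.card_zpowers, hi])
  obtain ⟨p1, p2, p3⟩ := pair_elems
  obtain ⟨g0, g6, g40, g154, k0, k6, k43, k637⟩ := pair_eqs
  have hl : ∀ i < 2, ∀ x ∈ pairG.getD i [], x < 9 := by
    intro i hi
    exact pairG_lt _ (by rw [List.getD_eq_getElem _ _ (show i < pairG.length from hi)]; exact List.getElem_mem _)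
  obtain ⟨m1, m2⟩ := pair_move (a := 0) (b := 1) (c := 0) (d := 1) (by norm_num) (by norm_num) (by norm_num)
    (by norm_num) (hl 0 (by norm_num)) g0 g6 g40 g154
  obtain ⟨n1, n2⟩ := pair_move (a := 2) (b := 3) (c := 4) (d := 5) (by norm_num) (by norm_num) (by norm_num)
    (by norm_num) (hl 1 (by norm_num)) k0 k6 k43 k637
  have hu := LocalEvenB.CoreFunctor.inverts hK (qA_sq 2) (hconj _ (qA_mem_bigQ 2))
    (fpf _ _ (m1.trans p1) (by rw [m2, p1]; exact qA_mem_bigQ 2))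
  have hju2 : jA * qA 2 * (jA * qA 2) = 1 := by
    calc jA * qA 2 * (jA * qA 2) = jA * (qA 2 * jA) * qA 2 := by group
      _ = jA * jA * (qA 2 * qA 2) := by rw [← jA_qA]; group
      _ = 1 := by rw [jA_sq, qA_sq, one_mul]
  have hju := LocalEvenB.CoreFunctor.inverts hK hju2 (hconj _ (mul_mem jA_mem_bigQ (qA_mem_bigQ 2)))
    (fpf _ _ (n1.trans p2) (by rw [n2]; exact p3))
  rw [Subgroup.eq_bot_iff_forall]
  intro x hx
  have e := hju x hx
  rw [show jA * qA 2 * x * (jA * qA 2)⁻¹ = jA * (qA 2 * x * (qA 2)⁻¹) * jA⁻¹ by group, hu x hx,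
    hinvj _ (inv_mem hx), inv_inv] at e
  refine odd_meets hK (P := Subgroup.zpowers x) ?_ hx (Subgroup.mem_zpowers x)
  obtain ⟨i, -, hi⟩ := (Nat.dvd_prime_pow Nat.prime_two).1 (show orderOf x ∣ 2 ^ 1 from
    orderOf_dvd_of_pow_eq_one (by rw [pow_one, pow_two]; nth_rewrite 1 [e]; exact inv_mul_cancel x))
  exact IsPGroup.of_card (n := i) (by rw [Nat.card_zpowers, hi])

theorem bigQ_large : Cfsg.IsLargeExtraspecial bigQ :=
  ⟨bigQ_extraspecial, centralizer_bigQ, cen_le_normalizer, fun _ => odd_trivial⟩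

/-- The generalised Fitting subgroup of a copy of the centraliser is the kernel. -/
theorem fitting_eq {C : Type*} [Group C] [Finite C] (ι : C ≃* cenA) :
    Cfsg.generalizedFittingSubgroup C = (psi.comp ι.toMonoidHom).ker := by
  have := finite_aut
  haveI : Fact (Nat.Prime 2) := ⟨Nat.prime_two⟩
  set φ := psi.comp ι.toMonoidHom with hφ
  obtain ⟨hq, -, -⟩ := bigQ_eq
  have hpk : IsPGroup 2 φ.ker := by
    refine IsPGroup.of_card (n := 11) ?_
    have e : φ.ker = psi.ker.comap ι.toMonoidHom := rfl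
    rw [e, Subgroup.comap_equiv_eq_map_symm', Subgroup.card_map_of_injective ι.symm.injective, card_ker]
    norm_num
  have hcore : Cfsg.pCore 2 C = φ.ker := by
    refine le_antisymm ?_ (CfsgLib.Solvable.Cores.le_pCore hpk)
    have : ((Cfsg.pCore 2 C).map ι.toMonoidHom).Normal :=
      (inferInstance : (Cfsg.pCore 2 C).Normal).map _ ι.surjective
    set M := ((Cfsg.pCore 2 C).map ι.toMonoidHom).map psi.rangeRestrict with hM
    have : M.Normal := (inferInstance : ((Cfsg.pCore 2 C).map ι.toMonoidHom).Normal).map _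
      psi.rangeRestrict_surjective
    have hMp : IsPGroup 2 M := ((CfsgLib.Solvable.Cores.isPGroup_pCore 2).map _).map _
    rcases normal_cases M with h | h
    · intro x hx
      have h1 : psi.rangeRestrict (ι x) ∈ (⊥ : Subgroup psi.range) :=
        h ▸ Subgroup.mem_map_of_mem _ (Subgroup.mem_map_of_mem ι.toMonoidHom hx)
      exact congrArg Subtype.val (Subgroup.mem_bot.1 h1)
    · exfalso
      have : IsPGroup 2 N40 := hMp.of_injective
        ((Subgroup.inclusion N40_le).codRestrict M fun x => h _ x.2)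
        (fun a b e => Subgroup.inclusion_injective N40_le (congrArg Subtype.val e))
      obtain ⟨n, hn⟩ := IsPGroup.iff_card.1 this
      rw [N40_spec.1] at hn
      have h3 : 3 ∣ 2 ^ n := hn ▸ (by norm_num)
      exact absurd (Nat.prime_three.dvd_of_dvd_pow h3) (by norm_num)
  rw [CfsgLib.KGroups.CharP.generalizedFitting_eq_pCore (p := 2), hcore]
  rw [hcore]
  intro x hx
  have h1 : ∀ q ∈ bigQ, Commute (ι x).1 q := by
    intro q hq'
    rw [hq] at hq'
    obtain ⟨y, hy, rfl⟩ := hq'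
    have hy' : ι.symm y ∈ φ.ker := by
      show psi (ι (ι.symm y)) = 1
      rw [ι.apply_symm_apply]; exact hy
    have h := congrArg ι (Subgroup.mem_centralizer_iff.1 hx _ hy')
    rw [map_mul, map_mul, ι.apply_symm_apply] at h
    exact (congrArg Subtype.val h).symm
  obtain ⟨hb, -⟩ := central_of_centralizes h1
  rw [hq] at hb
  obtain ⟨y, hy, e⟩ := hb
  show psi (ι x) = 1
  rw [← show y = ι x from Subtype.ext e]
  exact hy

end CfsgLib.Sporadic.FiTransfer.PairTwo
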