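import Cfsg.Agent.Lib.Sporadic.FiTransfer.PairTwo.Stab
import Cfsg.Agent.Lib.Classical.PSpThree.Iso
import Cfsg.Agent.Lib.KnownC.AutPSU.Outer
import Cfsg.Agent.S0283

/-!
# The action of the centraliser on forty subsets of the 180 transpositions
-/

set_option autoImplicit false
set_option maxRecDepth 100000

open Cfsg.Spor
open CfsgLib.Sporadic.CosetCert CfsgLib.Sporadic.CosetCert.FiP CfsgLib.Sporadic.CosetCert.FiP.OutFi22
open CfsgLib.Sporadic.CosetCert.FiData (table)
open CfsgLib.Classical.PSpThree (perms exists_psp)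

namespace CfsgLib.Sporadic.FiTransfer.PairTwo

attribute [local irreducible] PTab.img symAt

/-- Incidence of a point with one of the forty. -/
def Inc (k : Fin 40) (i : Fin 180) : Prop := (k : ℕ) ∈ memb.getD i []

/-- The automorphism moves incidences along a permutation of the forty. -/
def Pres (β : MulAut Fi22) (σ : Equiv.Perm (Fin 40)) : Prop :=
  ∀ i : Fin 180, ∃ i' : Fin 180, autPerm β (sPt i) = sPt i' ∧ ∀ k, Inc k i → Inc (σ k) i'

theorem pres_one : Pres 1 1 := fun i => ⟨i, by rw [map_one, Equiv.Perm.one_apply], fun k h => h⟩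

theorem pres_mul {β γ : MulAut Fi22} {σ τ : Equiv.Perm (Fin 40)} (hβ : Pres β σ) (hγ : Pres γ τ) :
    Pres (β * γ) (σ * τ) := fun i => by
  obtain ⟨i', e, h⟩ := hγ i
  obtain ⟨i'', e', h'⟩ := hβ i'
  exact ⟨i'', by rw [map_mul, Equiv.Perm.mul_apply, e, e'], fun k hk => h' _ (h k hk)⟩

/-- The points incident with one of the forty. -/
def incSet (k : Fin 40) : Finset (Fin 180) :=
  Finset.univ.filter fun i => (memb.getD i []).contains (k : ℕ) = true

theorem mem_incSet {k : Fin 40} {i : Fin 180} : i ∈ incSet k ↔ Inc k i := by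
  simp [incSet, Inc]

theorem card_incSet (k : Fin 40) : (incSet k).card = 36 := by
  have h := Nat.eq_of_beq_eq_true (List.all_eq_true.1 memb_count k.1 (List.mem_range.2 k.2))
  rw [← h, List.countP_eq_length_filter]
  rw [← List.toFinset_card_of_nodup (List.nodup_range.filter _)]
  refine Finset.card_bij (fun i _ => (i : ℕ)) (fun i hi => ?_) (fun a _ b _ e => Fin.ext e) fun n hn => ?_
  · simp only [incSet, Finset.mem_filter, Finset.mem_univ, true_and] at hi
    simpa using And.intro i.2 hi
  · simp only [List.mem_toFinset, List.mem_filter, List.mem_range] at hn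
    exact ⟨⟨n, hn.1⟩, Finset.mem_filter.2 ⟨Finset.mem_univ _, hn.2⟩, rfl⟩

theorem incSet_injective : Function.Injective incSet := by
  intro a b h
  by_contra hne
  have hs := List.all_eq_true.1 (List.all_eq_true.1 memb_sep a.1 (List.mem_range.2 a.2)) b.1
    (List.mem_range.2 b.2)
  rw [Bool.or_eq_true] at hs
  rcases hs with hs | hs
  · exact hne (Fin.ext (Nat.eq_of_beq_eq_true hs))
  obtain ⟨i, hi, hh⟩ := List.any_eq_true.1 hs
  rw [Bool.and_eq_true, Bool.not_eq_true'] at hh
  have h1 : (⟨i, List.mem_range.1 hi⟩ : Fin 180) ∈ incSet a := by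
    simp [incSet]; simpa using hh.1
  rw [h] at h1
  simp only [incSet, Finset.mem_filter, Finset.mem_univ, true_and] at h1
  rw [hh.2] at h1
  exact Bool.false_ne_true h1

theorem pres_unique {β : MulAut Fi22} {σ τ : Equiv.Perm (Fin 40)} (hσ : Pres β σ) (hτ : Pres β τ) :
    σ = τ := by
  classical
  choose f hf hfs using hσ
  refine Equiv.ext fun k => incSet_injective ?_
  have hinj : Function.Injective f := fun a b e =>
    sPt_injective ((autPerm β).injective ((hf a).trans ((congrArg sPt e).trans (hf b).symm)))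
  have key : ∀ ρ : Equiv.Perm (Fin 40), Pres β ρ → (incSet k).image f = incSet (ρ k) := by
    intro ρ hρ
    refine Finset.eq_of_subset_of_card_le (fun j hj => ?_) ?_
    · obtain ⟨i, hi, rfl⟩ := Finset.mem_image.1 hj
      obtain ⟨i', e, h⟩ := hρ i
      rw [sPt_injective ((hf i).symm.trans e)]
      exact mem_incSet.2 (h k (mem_incSet.1 hi))
    · rw [Finset.card_image_of_injective _ hinj, card_incSet, card_incSet]
  rw [← key σ fun i => ⟨f i, hf i, hfs i⟩, key τ hτ]

theorem sig_bound {g : ℕ} (hg : g < 11) (k : Fin 40) : (sig.getD g []).getD k 0 < 40 ∧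
    (sig.getD g []).getD k 40 = (sig.getD g []).getD k 0 := by
  have h := List.all_eq_true.1 sig_perm g (List.mem_range.2 hg)
  simp only [Bool.and_eq_true, decide_eq_true_eq, List.all_eq_true] at h
  have hk : (k : ℕ) < (sig.getD g []).length := by rw [h.1.1]; exact k.2
  rw [List.getD_eq_getElem _ _ hk, List.getD_eq_getElem _ _ hk]
  exact ⟨Nat.le_of_ble_eq_true (h.2 _ (List.getElem_mem hk)), rfl⟩

theorem sig_injective {g : ℕ} (hg : g < 11) :
    Function.Injective fun k : Fin 40 => (⟨(sig.getD g []).getD k 0, (sig_bound hg k).1⟩ : Fin 40) := by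
  intro a b e
  have h := List.all_eq_true.1 sig_perm g (List.mem_range.2 hg)
  simp only [Bool.and_eq_true, decide_eq_true_eq] at h
  have ha : (a : ℕ) < (sig.getD g []).length := by rw [h.1.1]; exact a.2
  have hb : (b : ℕ) < (sig.getD g []).length := by rw [h.1.1]; exact b.2
  have e' := congrArg Fin.val e
  simp only [List.getD_eq_getElem _ _ ha, List.getD_eq_getElem _ _ hb, h.1.2.getElem_inj_iff] at e'
  exact Fin.ext e'

/-- The effect of a generator on the forty. -/
noncomputable def sigP {g : ℕ} (hg : g < 11) : Equiv.Perm (Fin 40) :=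
  Equiv.ofBijective _ (Finite.injective_iff_bijective.1 (sig_injective hg))

theorem pres_cG {g : ℕ} (hg : g < 11) : Pres (cG g) (sigP hg) := by
  intro i
  have h := List.all_eq_true.1 (List.all_eq_true.1 pos_ok g (List.mem_range.2 hg)) i.1
    (List.mem_range.2 i.2)
  simp only [Bool.and_eq_true, List.all_eq_true, Nat.blt_eq] at h
  obtain ⟨⟨hlt, himg⟩, hmem⟩ := h
  refine ⟨⟨_, hlt⟩, Fin.ext ?_, fun k hk => ?_⟩
  · rw [cG, autEl_img (cG_lt g)]
    exact Nat.eq_of_beq_eq_true himg
  · have := List.contains_iff_mem.1 (hmem _ hk)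
    rw [(sig_bound hg k).2] at this
    exact this

theorem pres_all {β : MulAut Fi22} (hβ : β ∈ cenA) : ∃ σ, Pres β σ := by
  have := finite
  have : Finite (MulAut Fi22) := Finite.of_injective autPerm autPerm_injective
  rw [← cenA_gen] at hβ
  induction hβ using Subgroup.closure_induction with
  | mem x hx =>
    obtain ⟨g, hg, rfl⟩ := hx
    exact ⟨_, pres_cG hg⟩
  | one => exact ⟨1, pres_one⟩
  | mul x y _ _ hx hy =>
    obtain ⟨σ, hσ⟩ := hx
    obtain ⟨τ, hτ⟩ := hy
    exact ⟨σ * τ, pres_mul hσ hτ⟩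
  | inv x _ hx =>
    obtain ⟨σ, hσ⟩ := hx
    have hpow : ∀ n : ℕ, Pres (x ^ n) (σ ^ n) := by
      intro n
      induction n with
      | zero => simpa using pres_one
      | succ n ih => rw [pow_succ, pow_succ]; exact pres_mul ih hσ
    refine ⟨σ ^ (orderOf x - 1), ?_⟩
    rw [inv_eq_of_mul_eq_one_left (a := x ^ (orderOf x - 1)) (by
      rw [← pow_succ, Nat.sub_add_cancel (orderOf_pos x), pow_orderOf_eq_one])]
    exact hpow _

/-- The action on the forty. -/
noncomputable def psi : cenA →* Equiv.Perm (Fin 40) where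
  toFun β := (pres_all β.2).choose
  map_one' := pres_unique (pres_all (one_mem _)).choose_spec pres_one
  map_mul' β γ := pres_unique (pres_all (β * γ).2).choose_spec
    (pres_mul (pres_all β.2).choose_spec (pres_all γ.2).choose_spec)

theorem psi_eq {β : cenA} {σ : Equiv.Perm (Fin 40)} (h : Pres β.1 σ) : psi β = σ :=
  pres_unique (pres_all β.2).choose_spec h

/-- A generator as an element of the centraliser. -/
noncomputable def cGen (g : ℕ) : cenA := ⟨cG g, cG_mem g⟩

theorem psi_cGen {g : ℕ} (hg : g < 11) (k : Fin 40) :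
    ((psi (cGen g) k : Fin 40) : ℕ) = (sig.getD g []).getD k 40 := by
  rw [psi_eq (β := cGen g) (pres_cG hg), (sig_bound hg k).2]
  rfl

/-- The generators used on the forty. -/
noncomputable def g40 (x : ℕ) : cenA := cGen (g40Ix.getD x 0)

theorem acts40 : tab40.Acts psi g40 := by
  refine ⟨fun x hx u => ?_⟩
  have hx' : x < 8 := hx
  have h : ∀ y < 8, g40Ix.getD y 0 < 11 := by decide
  have key : ∀ v : Fin 40, ((psi (g40 x) v : Fin 40) : ℕ) = tab40.img x v := fun v => by
    rw [g40, psi_cGen (h x hx'), tab40_agree ⟨x, hx'⟩ v]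
  exact key u

theorem psi_range_ge : 51840 ≤ Nat.card psi.range := by
  rw [← chain40_prod]
  exact PTab.chainProd_le_card acts40 tab40_slp _ [] psi.range chain40_ok fun _ _ _ _ _ => ⟨_, rfl⟩

/-- The symplectic group of degree four over the field with three elements, on the forty. -/
noncomputable def N40 : Subgroup (Equiv.Perm (Fin 40)) := exists_psp.choose.range

theorem N40_spec : Nat.card N40 = 25920 ∧ ∃ c : Fin 40 → Equiv.Perm (Fin 40),
    (∀ v i, c v i = perms v i) ∧ N40 = Subgroup.closure (Set.range c) :=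
  ⟨exists_psp.choose_spec.2.1, exists_psp.choose_spec.2.2⟩

theorem N40_iso {F : Type} [Field F] [Fintype F] (hF : Fintype.card F = 4) :
    Nonempty (N40 ≃* Cfsg.PSU 4 F 2) := by
  obtain ⟨φ⟩ := CfsgLib.Classical.PSpThree.iso (F := F) hF
  exact ⟨((QuotientGroup.quotientKerEquivRange exists_psp.choose).symm.trans
    (QuotientGroup.quotientMulEquivOfEq exists_psp.choose_spec.1)).trans φ⟩

/-- The transvection of the point `v`. -/
noncomputable def tv (v : Fin 40) : Equiv.Perm (Fin 40) := N40_spec.2.choose v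

theorem tv_apply (v i : Fin 40) : tv v i = perms v i := N40_spec.2.choose_spec.1 v i

theorem N40_eq : N40 = Subgroup.closure (Set.range tv) := N40_spec.2.choose_spec.2

/-- The seven as products, in order of application. -/
noncomputable def seven (L : List ℕ) : cenA := appProd (fun x => cGen (x + 2)) L

theorem psi_seven : ∀ L : List ℕ, L.all (fun x => Nat.blt x 7) = true → ∀ k : Fin 40,
    ((psi (seven L) k : Fin 40) : ℕ) = L.foldl (fun u x => (sig.getD (x + 2) []).getD u 40) (k : ℕ) := by
  intro L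
  induction L with
  | nil => intro _ k; simp [seven, appProd]
  | cons x t ih =>
    intro h k
    rw [List.all_cons, Bool.and_eq_true, Nat.blt_eq] at h
    rw [seven, appProd, map_mul, Equiv.Perm.mul_apply]
    show ((psi (seven t) _ : Fin 40) : ℕ) = _
    rw [ih h.2, psi_cGen (by omega)]
    rfl

theorem tv_mem (v : Fin 40) : ∃ L : List ℕ, psi (seven L) = tv v :=
  ⟨permsW.getD v [], Equiv.ext fun k => Fin.ext (by
    rw [psi_seven _ (permsW_ok v k).1, (permsW_ok v k).2, tv_apply])⟩

theorem N40_le : N40 ≤ psi.range := by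
  rw [N40_eq, Subgroup.closure_le]
  rintro _ ⟨v, rfl⟩
  obtain ⟨L, hL⟩ := tv_mem v
  exact ⟨_, hL⟩

theorem tvs_mem : ∀ L : List ℕ, ∃ π ∈ N40, ∀ k, π k = permsFold L k := by
  intro L
  induction L with
  | nil => exact ⟨1, one_mem _, fun k => rfl⟩
  | cons x t ih =>
    obtain ⟨π, hπ, h⟩ := ih
    refine ⟨π * tv ⟨x % 40, Nat.mod_lt _ (by norm_num)⟩,
      mul_mem hπ (by rw [N40_eq]; exact Subgroup.subset_closure (Set.mem_range_self _)), fun k => ?_⟩
    rw [Equiv.Perm.mul_apply, h, tv_apply]
    rfl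

theorem seven_mem {x : ℕ} (hx : x < 7) : psi (cGen (x + 2)) ∈ N40 := by
  obtain ⟨π, hπ, h⟩ := tvs_mem (sigW.getD x [])
  suffices psi (cGen (x + 2)) = π by rw [this]; exact hπ
  refine Equiv.ext fun k => Fin.ext ?_
  rw [psi_cGen (by omega), h]
  exact ((sigW_ok ⟨x, hx⟩ k).2).symm

theorem psi_triv {g : ℕ} (hg : g < 11) (h : sig.getD g [] = List.range 40) : psi (cGen g) = 1 := by
  refine Equiv.ext fun k => Fin.ext ?_
  rw [psi_cGen hg, h, List.getD_eq_getElem _ _ (by simp), List.getElem_range, Equiv.Perm.one_apply]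

theorem trivial_gens : sig.getD 0 [] = List.range 40 ∧ sig.getD 1 [] = List.range 40 ∧
    sig.getD 10 [] = List.range 40 := by decide +kernel

theorem psi_nine_eq (k : Fin 40) : psi (cGen 9) k = u40 k := Fin.ext (by
  rw [psi_cGen (by norm_num), (sig_bound (show 9 < 11 by norm_num) k).2]
  exact (Nat.mod_eq_of_lt (sig_bound (show 9 < 11 by norm_num) k).1).symm)

theorem range_le_normalizer : psi.range ≤ Subgroup.normalizer (N40 : Set (Equiv.Perm (Fin 40))) := by
  have htop : Subgroup.closure (cGen '' {g | g < 11}) = ⊤ := by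
    apply Subgroup.map_injective cenA.subtype_injective
    rw [MonoidHom.map_closure, ← MonoidHom.range_eq_map, Subgroup.range_subtype, Set.image_image]
    exact cenA_gen
  rw [MonoidHom.range_eq_map, ← htop, MonoidHom.map_closure, Subgroup.closure_le]
  rintro _ ⟨_, ⟨g, hg, rfl⟩, rfl⟩
  have hin : ∀ x, psi x ∈ N40 → psi x ∈ Subgroup.normalizer (N40 : Set (Equiv.Perm (Fin 40))) :=
    fun x h => Subgroup.le_normalizer h
  have hg' : g < 11 := hg
  obtain ⟨t0, t1, t10⟩ := trivial_gens
  interval_cases g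
  · rw [psi_triv (by norm_num) t0]; exact one_mem _
  · rw [psi_triv (by norm_num) t1]; exact one_mem _
  iterate 7 exact hin _ (seven_mem (by norm_num))
  · refine Subgroup.mem_normalizer_fintype ?_
    intro π hπ
    have hsq : psi (cGen 9) * psi (cGen 9) = 1 := by
      have h : ∀ k, u40 (u40 k) = k := by decide +kernel
      exact Equiv.ext fun k => by rw [Equiv.Perm.mul_apply, psi_nine_eq, psi_nine_eq, h, Equiv.Perm.one_apply]
    rw [SetLike.mem_coe, N40_eq] at hπ
    show _ ∈ N40
    rw [N40_eq]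
    induction hπ using Subgroup.closure_induction with
    | mem y hy =>
      obtain ⟨v, rfl⟩ := hy
      have e : psi (cGen 9) * tv v * (psi (cGen 9))⁻¹ =
          (tv ⟨conjIx.getD v 0 % 40, Nat.mod_lt _ (by norm_num)⟩)⁻¹ := by
        rw [inv_eq_of_mul_eq_one_right hsq, eq_inv_iff_mul_eq_one]
        refine Equiv.ext fun k => ?_
        simp only [Equiv.Perm.mul_apply, psi_nine_eq, tv_apply, Equiv.Perm.one_apply]
        exact conj40 v k
      rw [e]
      exact inv_mem (Subgroup.subset_closure ⟨_, rfl⟩)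
    | one => simp
    | mul a b _ _ ha hb =>
      have := mul_mem ha hb
      rwa [show psi (cGen 9) * a * (psi (cGen 9))⁻¹ * (psi (cGen 9) * b * (psi (cGen 9))⁻¹) =
        psi (cGen 9) * (a * b) * (psi (cGen 9))⁻¹ by group] at this
    | inv a _ ha =>
      have := inv_mem ha
      rwa [show (psi (cGen 9) * a * (psi (cGen 9))⁻¹)⁻¹ = psi (cGen 9) * a⁻¹ * (psi (cGen 9))⁻¹ by group]
        at this
  · rw [psi_triv (by norm_num) t10]; exact one_mem _

theorem commute_tv {π : Equiv.Perm (Fin 40)} (h : ∀ v, Commute π (tv v)) : π = 1 := by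
  refine Equiv.ext fun u => ?_
  by_contra hne
  obtain ⟨v, h1, h2⟩ := fix40 u (π u) fun e => hne e.symm
  apply h2
  rw [← tv_apply, ← Equiv.Perm.mul_apply, ← (h v).eq, Equiv.Perm.mul_apply, tv_apply, h1]

/-- The image acting on the symplectic group by conjugation. -/
noncomputable def conjN : psi.range →* MulAut N40 :=
  N40.normalizerMonoidHom.comp (Subgroup.inclusion range_le_normalizer)

theorem conjN_injective : Function.Injective conjN := by
  rw [injective_iff_map_eq_one]
  intro x hx
  refine Subtype.ext (commute_tv fun v => ?_)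
  have hv : tv v ∈ N40 := N40_eq ▸ Subgroup.subset_closure ⟨v, rfl⟩
  have h := congrArg (fun β : MulAut N40 => (β ⟨tv v, hv⟩).1) hx
  exact mul_inv_eq_iff_eq_mul.1 h

theorem card_aut_N40 : Nat.card (MulAut N40) = 51840 := by
  let F := GaloisField 2 2
  letI : Fintype F := Fintype.ofFinite F
  have hF : Fintype.card F = 4 := by
    rw [← Nat.card_eq_fintype_card, GaloisField.card 2 2 two_ne_zero]; norm_num
  obtain ⟨φ⟩ := N40_iso hF
  have : Fact (Fintype.card F = 2 ^ 2) := ⟨by rw [hF]; norm_num⟩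
  have hc := Nat.card_congr φ.toEquiv
  rw [N40_spec.1] at hc
  rw [Nat.card_congr (MulAut.congr φ).toEquiv,
    CfsgLib.KnownC.AutPSU.card_mulAut (n := 4) (q := 2) (by norm_num) (by norm_num) (p := 2) (f := 1)
      (by norm_num), ← hc]
  norm_num

theorem psi_range_card : Nat.card psi.range = 51840 := by
  refine le_antisymm ?_ psi_range_ge
  rw [← card_aut_N40]
  have : Finite (MulAut N40) := Nat.finite_of_card_ne_zero (by rw [card_aut_N40]; norm_num)
  exact Nat.card_le_card_of_injective conjN conjN_injective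

theorem range_iso {F : Type} [Field F] [Fintype F] (hF : Fintype.card F = 4) :
    Nonempty (psi.range ≃* MulAut (Cfsg.PSU 4 F 2)) := by
  obtain ⟨φ⟩ := N40_iso hF
  have : Finite (MulAut N40) := Nat.finite_of_card_ne_zero (by rw [card_aut_N40]; norm_num)
  refine ⟨(MulEquiv.ofBijective conjN ((Nat.bijective_iff_injective_and_card _).2 ⟨conjN_injective, ?_⟩)).trans
    (MulAut.congr φ)⟩
  rw [psi_range_card, card_aut_N40]

theorem N40_simple : IsSimpleGroup N40 := by
  let F := GaloisField 2 2
  letI : Fintype F := Fintype.ofFinite F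
  have hF : Fintype.card F = 4 := by
    rw [← Nat.card_eq_fintype_card, GaloisField.card 2 2 two_ne_zero]; norm_num
  obtain ⟨φ⟩ := N40_iso hF
  have h := Cfsg.Agent.S0283.result (F := F) (q := 2) (by rw [hF]; norm_num) 4 (by norm_num) (by omega)
  exact φ.isSimpleGroup_congr.2 h

/-- A normal subgroup of the image is trivial or contains the symplectic group. -/
theorem normal_cases (M : Subgroup psi.range) [M.Normal] : M = ⊥ ∨ ∀ x : psi.range, x.1 ∈ N40 → x ∈ M := by
  have := N40_simple
  let ι := Subgroup.inclusion N40_le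
  rcases IsSimpleGroup.eq_bot_or_eq_top_of_normal (M.comap ι) inferInstance with h | h
  · left
    rw [Subgroup.eq_bot_iff_forall]
    intro m hm
    refine Subtype.ext (commute_tv fun v => ?_)
    have hv : tv v ∈ N40 := N40_eq ▸ Subgroup.subset_closure ⟨v, rfl⟩
    have hn : m.1 * tv v * m.1⁻¹ * (tv v)⁻¹ ∈ N40 :=
      mul_mem ((Subgroup.mem_normalizer_iff.1 (range_le_normalizer m.2) _).1 hv) (inv_mem hv)
    have h1 : (⟨_, hn⟩ : N40) ∈ M.comap ι := by
      show ι ⟨_, hn⟩ ∈ M
      have h2 := mul_mem hm ((inferInstance : M.Normal).conj_mem _ (inv_mem hm) (ι ⟨tv v, hv⟩))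
      have e : ι ⟨_, hn⟩ = m * (ι ⟨tv v, hv⟩ * m⁻¹ * (ι ⟨tv v, hv⟩)⁻¹) := Subtype.ext (by
        show m.1 * tv v * m.1⁻¹ * (tv v)⁻¹ = m.1 * (tv v * m.1⁻¹ * (tv v)⁻¹)
        group)
      rw [e]; exact h2
    rw [h, Subgroup.mem_bot] at h1
    exact mul_inv_eq_iff_eq_mul.1 (mul_inv_eq_one.1 (congrArg Subtype.val h1))
  · right
    intro x hx
    have : (⟨x.1, hx⟩ : N40) ∈ M.comap ι := by rw [h]; exact Subgroup.mem_top _
    exact this

end CfsgLib.Sporadic.FiTransfer.PairTwo
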