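import Cfsg.Agent.Lib.Sporadic.Fi22Out.Main
import Cfsg.Agent.Lib.Sporadic.FiTransfer.Model
import Cfsg.Agent.Lib.Sporadic.FiTransfer.PairTwo.Data

/-!
# Automorphisms of Fi22 as permutations of the 3510 points
-/

set_option autoImplicit false
set_option maxRecDepth 100000

open Cfsg.Spor
open CfsgLib.Sporadic.CosetCert CfsgLib.Sporadic.CosetCert.FiP CfsgLib.Sporadic.CosetCert.FiP.OutFi22
open CfsgLib.Sporadic.CosetCert.FiData (table)

namespace CfsgLib.Sporadic.FiTransfer.PairTwo

attribute [local irreducible] PTab.img symAt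

theorem sym_sq : sym * sym = 1 := MulEquiv.ext symHom_sq

theorem aut_form (β : MulAut Fi22) :
    ∃ g : Fi22, β = MulAut.conj g ∨ β = sym * MulAut.conj g := by
  rcases aut_cases β with ⟨g, h⟩ | ⟨g, h⟩
  · exact ⟨g, Or.inl h.symm⟩
  · exact ⟨g, Or.inr (by rw [h, ← mul_assoc, sym_sq, one_mul])⟩

theorem exists_pt (β : MulAut Fi22) (p : Fin table.N) : ∃ q, β (dp p) = dp q := by
  obtain ⟨g, rfl | rfl⟩ := aut_form β
  · exact ⟨hom g p, conj_dp g p⟩
  · refine ⟨symPerm (hom g p), ?_⟩
    show sym (g * dp p * g⁻¹) = _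
    rw [conj_dp, sym_dp]

/-- Where an automorphism sends a point. -/
noncomputable def apt (β : MulAut Fi22) (p : Fin table.N) : Fin table.N := (exists_pt β p).choose

theorem apt_spec (β : MulAut Fi22) (p : Fin table.N) : β (dp p) = dp (apt β p) :=
  (exists_pt β p).choose_spec

theorem apt_mul (β γ : MulAut Fi22) (p : Fin table.N) : apt (β * γ) p = apt β (apt γ p) :=
  dp_injective (by rw [← apt_spec, ← apt_spec, ← apt_spec]; rfl)

theorem apt_one (p : Fin table.N) : apt 1 p = p := dp_injective (apt_spec 1 p).symm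

/-- The action of the automorphism group on the points. -/
noncomputable def autPerm : MulAut Fi22 →* Equiv.Perm (Fin table.N) where
  toFun β :=
    { toFun := apt β
      invFun := apt β⁻¹
      left_inv := fun p => by rw [← apt_mul, inv_mul_cancel, apt_one]
      right_inv := fun p => by rw [← apt_mul, mul_inv_cancel, apt_one] }
  map_one' := Equiv.ext apt_one
  map_mul' β γ := Equiv.ext (apt_mul β γ)

theorem autPerm_spec (β : MulAut Fi22) (p : Fin table.N) : β (dp p) = dp (autPerm β p) := apt_spec β p

theorem autPerm_injective : Function.Injective autPerm := by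
  rw [injective_iff_map_eq_one]
  intro β h
  refine eq_one_of_gens fun x _ => ?_
  show β (dp (gpt x)) = dp (gpt x)
  rw [autPerm_spec, h, Equiv.Perm.one_apply]

theorem autPerm_conj (g : Fi22) : autPerm (MulAut.conj g) = hom g :=
  Equiv.ext fun p => dp_injective (by rw [← autPerm_spec, ← conj_dp]; rfl)

theorem autPerm_sym : autPerm sym = symPerm :=
  Equiv.ext fun p => dp_injective (by rw [← autPerm_spec, sym_dp])

theorem conj_injective : Function.Injective (MulAut.conj : Fi22 → MulAut Fi22) := by
  intro g h e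
  apply card_eq.2
  rw [← autPerm_conj, ← autPerm_conj, e]

/-- The automorphism of a word, after the symmetry when the flag is set. -/
noncomputable def autEl (w : List ℕ × Bool) : MulAut Fi22 :=
  MulAut.conj (el w.1) * (bif w.2 then sym else 1)

/-- Where such an automorphism sends a point. -/
noncomputable def imgA (w : List ℕ × Bool) (v : ℕ) : ℕ :=
  table.imgW w.1 (bif w.2 then symAt v else v)

theorem autEl_img {w : List ℕ × Bool} (hw : ∀ x ∈ w.1, x < 9) (v : Fin table.N) :
    ((autPerm (autEl w) v : Fin table.N) : ℕ) = imgA w v := by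
  obtain ⟨L, b⟩ := w
  rw [autEl, map_mul, Equiv.Perm.mul_apply, autPerm_conj, el_img hw]
  show table.imgW L _ = table.imgW L _
  congr 1
  cases b
  · rw [cond_false, map_one]; rfl
  · rw [cond_true, autPerm_sym]; rfl

/-- The product of some such automorphisms, in order of application. -/
noncomputable def prodA : List (List ℕ × Bool) → MulAut Fi22
  | [] => 1
  | w :: t => prodA t * autEl w

/-- Where a product sends a point. -/
noncomputable def imgP (L : List (List ℕ × Bool)) (v : ℕ) : ℕ := L.foldl (fun u w => imgA w u) v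

theorem prodA_img : ∀ {L : List (List ℕ × Bool)}, (∀ w ∈ L, ∀ x ∈ w.1, x < 9) → ∀ v : Fin table.N,
    ((autPerm (prodA L) v : Fin table.N) : ℕ) = imgP L v := by
  intro L
  induction L with
  | nil => intro _ v; rw [prodA, map_one]; rfl
  | cons w t ih =>
    intro h v
    rw [prodA, map_mul, Equiv.Perm.mul_apply, ih (fun u hu => h u (List.mem_cons_of_mem _ hu)),
      autEl_img (h w List.mem_cons_self)]
    rfl

/-- Agreement of two products on the points of the generators. -/
noncomputable def sameA (A B : List (List ℕ × Bool)) : Bool :=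
  genPts.all fun p => Nat.beq (imgP A p) (imgP B p)

theorem eq_of_sameA {A B : List (List ℕ × Bool)} (hA : ∀ w ∈ A, ∀ x ∈ w.1, x < 9)
    (hB : ∀ w ∈ B, ∀ x ∈ w.1, x < 9) (h : sameA A B = true) : prodA A = prodA B := by
  refine (inv_mul_eq_one.1 (eq_one_of_gens fun x hx => ?_)).symm
  show ((prodA B)⁻¹ * prodA A) (dp (gpt x)) = dp (gpt x)
  rw [autPerm_spec, map_mul, Equiv.Perm.mul_apply, map_inv, Equiv.Perm.inv_def]
  congr 1
  rw [Equiv.symm_apply_eq]
  refine Fin.ext ?_
  rw [prodA_img hA, prodA_img hB, gpt_val hx]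
  refine Nat.eq_of_beq_eq_true (List.all_eq_true.1 h _ ?_)
  rw [List.getD_eq_getElem _ _ (show x < genPts.length from hx)]
  exact List.getElem_mem _

theorem prodA_single (w : List ℕ × Bool) : prodA [w] = autEl w := one_mul _

theorem autEl_false (L : List ℕ) : autEl (L, false) = MulAut.conj (el L) := mul_one _

end CfsgLib.Sporadic.FiTransfer.PairTwo
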