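import Cfsg.Agent.Lib.Sporadic.FiTransfer.PairTwo.Action
import Cfsg.Agent.Lib.Sporadic.ExtraspecialCrit

/-!
# The kernel of the action: an extraspecial group of order 2 ^ 11
-/

set_option autoImplicit false
set_option maxRecDepth 100000

open Cfsg.Spor
open CfsgLib.Sporadic.CosetCert CfsgLib.Sporadic.CosetCert.FiP CfsgLib.Sporadic.CosetCert.FiP.OutFi22
open CfsgLib.Sporadic.CosetCert.FiData (table)
open scoped commutatorElement

namespace CfsgLib.Sporadic.FiTransfer.PairTwo

attribute [local irreducible] PTab.img symAt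

theorem finite_aut : Finite (MulAut Fi22) := by
  have := finite
  exact Finite.of_injective autPerm autPerm_injective

theorem noW_lt : ∀ x ∈ noW.1, x < 9 := by simp [noW]

theorem jW_lt : ∀ x ∈ jW.1, x < 9 := by decide

/-- A generator of the kernel. -/
noncomputable def qA (i : Fin 10) : MulAut Fi22 := autEl (qW.getD i noW)

theorem qA_lt (i : Fin 10) : ∀ x ∈ (qW.getD i noW).1, x < 9 := by
  rw [List.getD_eq_getElem _ _ (by rw [qW_len]; exact i.2)]
  exact qW_lt _ (List.getElem_mem _)

theorem ne_of_sameA {A B : List (List ℕ × Bool)} (hA : ∀ w ∈ A, ∀ x ∈ w.1, x < 9)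
    (hB : ∀ w ∈ B, ∀ x ∈ w.1, x < 9) (h : sameA A B = false) : prodA A ≠ prodA B := by
  intro e
  have : sameA A B = true := by
    refine List.all_eq_true.2 fun p hp => Nat.beq_eq.mpr ?_
    obtain ⟨x, hx, rfl⟩ := List.mem_iff_getElem.1 hp
    have hx' : x < 9 := hx
    have h2 := congrArg (fun β => ((autPerm β (gpt x) : Fin table.N) : ℕ)) e
    simpa only [prodA_img hA, prodA_img hB, gpt_val hx', List.getD_eq_getElem _ _ hx] using h2
  rw [this] at h
  exact Bool.noConfusion h

theorem prodA_two (u w : List ℕ × Bool) : prodA [u, w] = autEl w * autEl u := by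
  simp [prodA]

theorem prodA_three (u w z : List ℕ × Bool) : prodA [u, w, z] = autEl z * autEl w * autEl u := by
  simp [prodA]

theorem mem2 {P : List ℕ × Bool → Prop} {a b : List ℕ × Bool} (ha : P a) (hb : P b) : ∀ w ∈ [a, b], P w := by
  simp [ha, hb]

theorem mem3 {P : List ℕ × Bool → Prop} {a b c : List ℕ × Bool} (ha : P a) (hb : P b) (hc : P c) :
    ∀ w ∈ [a, b, c], P w := by
  simp [ha, hb, hc]

theorem jA_sq : jA * jA = 1 := by
  have h := eq_of_sameA (A := [jW, jW]) (B := []) (mem2 jW_lt jW_lt) (by simp) j_central.1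
  rwa [prodA_two, ← jA_eq] at h

theorem jA_qA (i : Fin 10) : jA * qA i = qA i * jA := by
  have h := eq_of_sameA (mem2 jW_lt (qA_lt i)) (mem2 (qA_lt i) jW_lt) (j_central.2 i)
  rw [prodA_two, prodA_two, ← jA_eq] at h
  exact h.symm

theorem qA_sq (i : Fin 10) : qA i * qA i = 1 := by
  have h := eq_of_sameA (mem2 (qA_lt i) (qA_lt i)) (by simp) (q_square i)
  rwa [prodA_two] at h

/-- Whether two generators of the kernel fail to commute. -/
def gram (i k : Fin 10) : Bool := (qM.getD i []).getD k false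

/-- A power of the involution. -/
noncomputable def jp (b : Bool) : MulAut Fi22 := bif b then jA else 1

theorem jp_xor (a b : Bool) : jp (xor a b) = jp a * jp b := by
  cases a <;> cases b <;> simp [jp, jA_sq]

theorem jp_qA (b : Bool) (i : Fin 10) : jp b * qA i = qA i * jp b := by
  cases b
  · simp [jp]
  · exact jA_qA i

theorem qA_comm (i k : Fin 10) : qA i * qA k = jp (gram i k) * (qA k * qA i) := by
  have h := q_gram i k
  unfold gram
  cases hb : (qM.getD i []).getD k false <;> rw [hb] at h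
  · have h' := eq_of_sameA (mem2 (qA_lt k) (qA_lt i)) (mem2 (qA_lt i) (qA_lt k)) h
    rw [prodA_two, prodA_two] at h'
    rw [show jp false = 1 from rfl, one_mul]
    exact h'
  · have h' := eq_of_sameA (mem2 (qA_lt k) (qA_lt i)) (mem3 jW_lt (qA_lt i) (qA_lt k)) h
    rw [prodA_two, prodA_three, ← jA_eq] at h'
    rw [show jp true = jA from rfl, ← mul_assoc, jA_qA, mul_assoc, jA_qA, ← mul_assoc]
    exact h'

theorem jA_ne : jA ≠ 1 := by
  intro e
  have h := congrArg (fun β => ((autPerm β (gpt 1) : Fin table.N) : ℕ)) e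
  simp only [jA_eq, autEl_img jW_lt, map_one, Equiv.Perm.one_apply, gpt_val (show 1 < 9 by norm_num)] at h
  revert h
  decide +kernel

/-- The subgroup they generate. -/
noncomputable def bigQ : Subgroup (MulAut Fi22) := Subgroup.closure (insert jA (Set.range qA))

theorem jA_mem_bigQ : jA ∈ bigQ := Subgroup.subset_closure (Set.mem_insert _ _)

theorem qA_mem_bigQ (i : Fin 10) : qA i ∈ bigQ :=
  Subgroup.subset_closure (Set.mem_insert_of_mem _ ⟨i, rfl⟩)

theorem jp_mem (b : Bool) : jp b ∈ bigQ := by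
  cases b
  · exact one_mem _
  · exact jA_mem_bigQ

theorem jA_central : bigQ ≤ Subgroup.centralizer ({jA} : Set (MulAut Fi22)) := by
  rw [bigQ, Subgroup.closure_le]
  rintro x (rfl | ⟨i, rfl⟩) <;> rw [SetLike.mem_coe, Subgroup.mem_centralizer_singleton_iff]
  exact (jA_qA i).symm

theorem jp_comm {x : MulAut Fi22} (hx : x ∈ bigQ) (b : Bool) : jp b * x = x * jp b := by
  cases b
  · simp [jp]
  · exact (Subgroup.mem_centralizer_singleton_iff.1 (jA_central hx)).symm

/-- The product of the chosen generators along a list. -/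
noncomputable def lprod (v : Fin 10 → Bool) : List (Fin 10) → MulAut Fi22
  | [] => 1
  | i :: t => (bif v i then qA i else 1) * lprod v t

theorem lprod_mem (v : Fin 10 → Bool) : ∀ L, lprod v L ∈ bigQ := by
  intro L
  induction L with
  | nil => exact one_mem _
  | cons i t ih =>
    refine mul_mem ?_ ih
    cases v i
    · exact one_mem _
    · exact qA_mem_bigQ i

/-- The commutator sign of a product against a generator. -/
def sgnAux (v : Fin 10 → Bool) (k : Fin 10) : List (Fin 10) → Bool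
  | [] => false
  | i :: t => xor (v i && gram i k) (sgnAux v k t)

theorem lprod_comm (v : Fin 10 → Bool) (k : Fin 10) :
    ∀ L, lprod v L * qA k = jp (sgnAux v k L) * (qA k * lprod v L) := by
  intro L
  induction L with
  | nil => simp [lprod, sgnAux, jp]
  | cons i t ih =>
    rw [lprod, mul_assoc, ih]
    cases hv : v i
    · simp [sgnAux, hv]
    · rw [cond_true, sgnAux, hv, Bool.true_and, jp_xor]
      calc qA i * (jp (sgnAux v k t) * (qA k * lprod v t))
          = jp (sgnAux v k t) * (qA i * qA k) * lprod v t := by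
            rw [← mul_assoc, ← jp_qA]; group
        _ = jp (sgnAux v k t) * (jp (gram i k) * (qA k * qA i)) * lprod v t := by rw [qA_comm]
        _ = jp (gram i k) * jp (sgnAux v k t) * (qA k * (qA i * lprod v t)) := by
            rw [← mul_assoc (jp (sgnAux v k t)), jp_comm (jp_mem (gram i k))]; group

theorem sgn_eq_fold (v : Fin 10 → Bool) (k : Fin 10) : ∀ (L : List (Fin 10)) (a : Bool),
    L.foldl (fun acc i => xor acc (v i && (qM.getD i []).getD k false)) a = xor a (sgnAux v k L) := by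
  intro L
  induction L with
  | nil => intro a; simp [sgnAux]
  | cons i t ih =>
    intro a
    rw [List.foldl_cons, ih, sgnAux, gram, Bool.xor_assoc]

theorem sgn_add (v v' : Fin 10 → Bool) (k : Fin 10) : ∀ L,
    sgnAux (fun i => xor (v i) (v' i)) k L = xor (sgnAux v k L) (sgnAux v' k L) := by
  intro L
  induction L with
  | nil => rfl
  | cons i t ih =>
    rw [sgnAux, sgnAux, sgnAux, ih]
    cases v i <;> cases v' i <;> cases gram i k <;> cases sgnAux v k t <;> cases sgnAux v' k t <;> rfl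

theorem sgn_nondeg {v : Fin 10 → Bool} (h : ∀ k, sgnAux v k (List.finRange 10) = false) :
    ∀ i, v i = false :=
  q_rank v fun k => by rw [sgn_eq_fold, h k]; rfl

/-- The normal form of an element. -/
noncomputable def nf (p : Bool × (Fin 10 → Bool)) : MulAut Fi22 := jp p.1 * lprod p.2 (List.finRange 10)

theorem nf_comm (p : Bool × (Fin 10 → Bool)) (k : Fin 10) :
    nf p * qA k = jp (sgnAux p.2 k (List.finRange 10)) * (qA k * nf p) := by
  rw [nf, mul_assoc, lprod_comm, ← mul_assoc, jp_comm (jp_mem _), mul_assoc, ← mul_assoc (qA k),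
    ← jp_qA, mul_assoc]

theorem jp_injective : Function.Injective jp := by
  intro a b h
  cases a <;> cases b
  · rfl
  · exact absurd h.symm jA_ne
  · exact absurd h jA_ne
  · rfl

theorem nf_injective : Function.Injective nf := by
  intro p q h
  have hs : ∀ k, sgnAux p.2 k (List.finRange 10) = sgnAux q.2 k (List.finRange 10) := fun k => by
    refine jp_injective (mul_right_cancel (b := qA k * nf p) ?_)
    rw [← nf_comm p k]
    conv_rhs => rw [h]
    rw [← nf_comm q k, h]
  have hv : p.2 = q.2 := funext fun i => by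
    have := sgn_nondeg (v := fun i => xor (p.2 i) (q.2 i))
      (fun k => by rw [sgn_add, hs, Bool.xor_self]) i
    revert this
    cases p.2 i <;> cases q.2 i <;> simp
  rw [nf, nf, hv] at h
  exact Prod.ext (jp_injective (mul_right_cancel h)) hv

theorem qW_pair : ∀ i : Fin 10, (imgA (qW.getD i noW) 0 = 0 ∧ imgA (qW.getD i noW) 6 = 6) ∨
    (imgA (qW.getD i noW) 0 = 6 ∧ imgA (qW.getD i noW) 6 = 0) := by decide +kernel

theorem qA_cen (i : Fin 10) : qA i ∈ cenA := by
  rw [mem_cenA]
  rcases qW_pair i with ⟨h0, h6⟩ | ⟨h0, h6⟩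
  · refine Or.inl ⟨Fin.ext ?_, Fin.ext ?_⟩
    · rw [qA, autEl_img (qA_lt i)]; exact h0
    · rw [qA, autEl_img (qA_lt i), gpt_two_val]; exact h6
  · refine Or.inr ⟨Fin.ext ?_, Fin.ext ?_⟩
    · rw [qA, autEl_img (qA_lt i), gpt_two_val]; exact h0
    · rw [qA, autEl_img (qA_lt i), gpt_two_val]; exact h6

theorem jA_cen : jA ∈ cenA := Subgroup.mem_centralizer_singleton_iff.2 rfl

theorem bigQ_le : bigQ ≤ cenA := jA_central

theorem psi_qA (i : Fin 10) : psi ⟨qA i, qA_cen i⟩ = 1 := by
  refine psi_eq fun j => ?_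
  have h := List.all_eq_true.1 qW_triv (qW.getD i noW) (by
    rw [List.getD_eq_getElem _ _ (by rw [qW_len]; exact i.2)]; exact List.getElem_mem _)
  obtain ⟨j', hj', he⟩ := List.any_eq_true.1 (List.all_eq_true.1 h j.1 (List.mem_range.2 j.2))
  simp only [Bool.and_eq_true, decide_eq_true_eq] at he
  refine ⟨⟨j', List.mem_range.1 hj'⟩, Fin.ext ?_, fun k hk => ?_⟩
  · show ((autPerm (autEl (qW.getD i noW)) (sPt j) : Fin table.N) : ℕ) = sPts.getD j' 3510
    rw [autEl_img (qA_lt i)]
    exact (Nat.eq_of_beq_eq_true he.1).symm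
  · show (k : ℕ) ∈ memb.getD j' []
    rw [he.2]; exact hk

theorem psi_jA : psi ⟨jA, jA_cen⟩ = 1 := by
  obtain ⟨t0, t1, -⟩ := trivial_gens
  have e : (⟨jA, jA_cen⟩ : cenA) = cGen 0 * cGen 1 := Subtype.ext (by
    show jA = cG 0 * cG 1
    have h : cGens.getD 0 noW = ([0], false) ∧ cGens.getD 1 noW = ([2], false) := by decide +kernel
    rw [cG, cG, h.1, h.2, autEl_false, autEl_false, el_single, el_single, ← map_mul]
    rfl)
  rw [e, map_mul, psi_triv (by norm_num) t0, psi_triv (by norm_num) t1, one_mul]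

theorem card_ker : Nat.card psi.ker = 2048 := by
  have h := psi.ker.card_mul_index
  rw [Subgroup.index_ker, psi_range_card, card_cenA] at h
  exact Nat.eq_of_mul_eq_mul_right (show 0 < 51840 by norm_num) (h.trans (show 106168320 = 2048 * 51840 by norm_num))

theorem bigQ_le_ker : bigQ ≤ psi.ker.map cenA.subtype := by
  rw [bigQ, Subgroup.closure_le]
  rintro x (rfl | ⟨i, rfl⟩)
  · exact ⟨⟨jA, jA_cen⟩, psi_jA, rfl⟩
  · exact ⟨⟨qA i, qA_cen i⟩, psi_qA i, rfl⟩

theorem bigQ_eq : bigQ = psi.ker.map cenA.subtype ∧ Nat.card bigQ = 2048 ∧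
    ∀ x ∈ bigQ, ∃ p, nf p = x := by
  have := finite_aut
  have h1 : 2048 ≤ Nat.card bigQ := by
    have h := Nat.card_le_card_of_injective (fun p => (⟨nf p, mul_mem (jp_mem _) (lprod_mem _ _)⟩ : bigQ))
      fun p q e => nf_injective (congrArg Subtype.val e)
    rwa [Nat.card_prod, Nat.card_fun, Nat.card_eq_fintype_card, Fintype.card_bool, Nat.card_fin] at h
  have h2 : Nat.card (psi.ker.map cenA.subtype) = 2048 := by
    rw [Subgroup.card_map_of_injective cenA.subtype_injective, card_ker]
  have he : bigQ = psi.ker.map cenA.subtype := Subgroup.eq_of_le_of_card_ge bigQ_le_ker (by rw [h2]; exact h1)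
  have hc : Nat.card bigQ = 2048 := by rw [he, h2]
  refine ⟨he, hc, fun x hx => ?_⟩
  have hb : Function.Bijective (fun p => (⟨nf p, mul_mem (jp_mem _) (lprod_mem _ _)⟩ : bigQ)) := by
    refine (Nat.bijective_iff_injective_and_card _).2 ⟨fun p q e => nf_injective (congrArg Subtype.val e), ?_⟩
    rw [Nat.card_prod, Nat.card_fun, Nat.card_eq_fintype_card, Fintype.card_bool, Nat.card_fin, hc]
    norm_num
  obtain ⟨p, hp⟩ := hb.2 ⟨x, hx⟩
  exact ⟨p, congrArg Subtype.val hp⟩

theorem comm_mod_j {x y : MulAut Fi22} (hx : x ∈ bigQ) (hy : y ∈ bigQ) :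
    ∃ b, x * y = jp b * (y * x) := by
  induction hy using Subgroup.closure_induction with
  | mem y hy =>
    rcases hy with rfl | ⟨k, rfl⟩
    · exact ⟨false, by rw [show jp false = 1 from rfl, one_mul]; exact (jp_comm hx true).symm⟩
    · obtain ⟨p, rfl⟩ := bigQ_eq.2.2 x hx
      exact ⟨_, nf_comm p k⟩
  | one => exact ⟨false, by simp [jp]⟩
  | mul a c ha hc iha ihc =>
    obtain ⟨s, hs⟩ := iha
    obtain ⟨t, ht⟩ := ihc
    refine ⟨xor s t, ?_⟩
    calc x * (a * c) = jp s * (a * (x * c)) := by rw [← mul_assoc, hs]; group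
      _ = jp s * (a * (jp t * (c * x))) := by rw [ht]
      _ = jp s * (jp t * (a * (c * x))) := by rw [← mul_assoc a, ← jp_comm ha]; group
      _ = _ := by rw [jp_xor]; group
  | inv a ha iha =>
    obtain ⟨s, hs⟩ := iha
    refine ⟨s, ?_⟩
    have h2 : jp s * jp s = 1 := by rw [← jp_xor, Bool.xor_self]; rfl
    calc x * a⁻¹ = a⁻¹ * (jp s * jp s * (a * x)) * a⁻¹ := by rw [h2]; group
      _ = a⁻¹ * (jp s * (x * a)) * a⁻¹ := by rw [mul_assoc (jp s), ← hs]
      _ = a⁻¹ * jp s * x := by group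
      _ = _ := by rw [← jp_comm (inv_mem ha)]; group

theorem sq_mod_j {x : MulAut Fi22} (hx : x ∈ bigQ) : ∃ b, x * x = jp b := by
  obtain ⟨p, rfl⟩ := bigQ_eq.2.2 x hx
  have key : ∀ L, ∃ b, lprod p.2 L * lprod p.2 L = jp b := by
    intro L
    induction L with
    | nil => exact ⟨false, mul_one _⟩
    | cons i t ih =>
      obtain ⟨b, hb⟩ := ih
      rw [lprod]
      cases p.2 i
      · exact ⟨b, by simpa using hb⟩
      · obtain ⟨c, hc⟩ := comm_mod_j (lprod_mem p.2 t) (qA_mem_bigQ i)
        refine ⟨xor c b, ?_⟩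
        rw [cond_true]
        calc qA i * lprod p.2 t * (qA i * lprod p.2 t) = qA i * (lprod p.2 t * qA i) * lprod p.2 t := by group
          _ = qA i * (jp c * (qA i * lprod p.2 t)) * lprod p.2 t := by rw [hc]
          _ = jp c * (qA i * qA i) * (lprod p.2 t * lprod p.2 t) := by rw [← mul_assoc, ← jp_qA]; group
          _ = _ := by rw [qA_sq, hb, mul_one, jp_xor]
  obtain ⟨b, hb⟩ := key (List.finRange 10)
  refine ⟨b, ?_⟩
  rw [nf]
  have hm := jp_comm (lprod_mem p.2 (List.finRange 10)) p.1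
  generalize lprod p.2 (List.finRange 10) = l at hb hm ⊢
  calc jp p.1 * l * (jp p.1 * l)
      = jp p.1 * (l * jp p.1) * l := by group
    _ = jp p.1 * jp p.1 * (l * l) := by rw [← hm]; group
    _ = _ := by rw [← jp_xor, Bool.xor_self, hb]; exact one_mul _

theorem central_cases {x : MulAut Fi22} (hx : x ∈ bigQ) (h : ∀ k, x * qA k = qA k * x) :
    ∃ b, x = jp b := by
  obtain ⟨p, rfl⟩ := bigQ_eq.2.2 x hx
  have hv : ∀ i, p.2 i = false := sgn_nondeg fun k => by
    refine jp_injective (mul_right_cancel (b := qA k * nf p) ?_)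
    rw [← nf_comm, show jp false = 1 from rfl, one_mul]
    exact h k
  have hl : ∀ L, lprod p.2 L = 1 := by
    intro L
    induction L with
    | nil => rfl
    | cons i t ih => rw [lprod, hv, cond_false, one_mul, ih]
  exact ⟨p.1, by rw [nf, hl, mul_one]⟩

theorem qA_noncomm : qA 0 * qA 1 ≠ qA 1 * qA 0 := by
  intro e
  have h := qA_comm 0 1
  have hg : gram 0 1 = true := by decide +kernel
  rw [hg, e] at h
  exact jA_ne (mul_right_cancel (h.symm.trans (one_mul _).symm))

theorem bigQ_pgroup : IsPGroup 2 bigQ :=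
  IsPGroup.of_card (n := 11) (by rw [bigQ_eq.2.1]; norm_num)

theorem bigQ_extraspecial : Cfsg.IsExtraspecial 2 bigQ := by
  have := finite_aut
  refine ExtraspecialCrit.isExtraspecial bigQ_pgroup ⟨jA, jA_mem_bigQ⟩ (fun e => jA_ne (congrArg Subtype.val e))
    (Subgroup.mem_center_iff.2 fun x => Subtype.ext
      (Subgroup.mem_centralizer_singleton_iff.1 (jA_central x.2)).symm.symm) (fun a b => ?_) (fun a => ?_)
    (fun a ha => ?_) ⟨⟨_, qA_mem_bigQ 0⟩, ⟨_, qA_mem_bigQ 1⟩, fun h => qA_noncomm (congrArg Subtype.val h.eq)⟩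
  · obtain ⟨s, hs⟩ := comm_mod_j a.2 b.2
    have e : (⁅a, b⁆ : bigQ).1 = jp s := by
      show a.1 * b.1 * a.1⁻¹ * b.1⁻¹ = _
      rw [hs]; group
    cases s
    · exact Or.inl (Subtype.ext e)
    · exact Or.inr (Subtype.ext e)
  · obtain ⟨s, hs⟩ := sq_mod_j a.2
    cases s
    · exact Or.inl (Subtype.ext hs)
    · exact Or.inr (Subtype.ext hs)
  · obtain ⟨s, hs⟩ := central_cases a.2 fun k =>
      (congrArg Subtype.val (Subgroup.mem_center_iff.1 ha ⟨_, qA_mem_bigQ k⟩)).symm
    cases s
    · exact Or.inl (Subtype.ext hs)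
    · exact Or.inr (Subtype.ext hs)

end CfsgLib.Sporadic.FiTransfer.PairTwo
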