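import Cfsg.Agent.Lib.Sporadic.FiTransfer.PairTwo.Checks

/-!
# The centraliser of a product of two commuting transpositions: generators and order
-/

set_option autoImplicit false
set_option maxRecDepth 100000

open Cfsg.Spor
open CfsgLib.Sporadic.CosetCert CfsgLib.Sporadic.CosetCert.FiP CfsgLib.Sporadic.CosetCert.FiP.OutFi22
open CfsgLib.Sporadic.CosetCert.FiData (table)

namespace CfsgLib.Sporadic.FiTransfer.PairTwo

attribute [local irreducible] PTab.img symAt

theorem fix_iff_commute {g : Fi22} {p : Fin table.N} : hom g p = p ↔ Commute g (dp p) := by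
  refine ⟨comm_of_fix, fun h => dp_injective ?_⟩
  rw [← conj_dp, h.eq, mul_inv_cancel_right]

theorem gpt_zero : gpt 0 = pt := dp_injective (by rw [← gen_eq_dp 0 (by norm_num), dp_pt])

theorem gpt_two_val : (gpt 2 : ℕ) = 6 := gpt_val (by norm_num)

theorem gen_fix_iff {x : ℕ} (hx : x < 9) {q : Fin table.N} :
    hom (coding.gen x) q = q ↔ table.imgW [x] q = q := by
  rw [← el_single, Fin.ext_iff, el_img (by simpa using hx)]

theorem el_ac : el [2, 0] = coding.gen 0 * coding.gen 2 := by
  show 1 * coding.gen 0 * coding.gen 2 = _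
  rw [one_mul]

theorem commute_ac : Commute (coding.gen 0) (coding.gen 2) := by
  rw [gen_eq_dp 2 (by norm_num)]
  refine fix_iff_commute.1 ?_
  rw [gen_fix_iff (by norm_num), gpt_two_val]
  exact six_sym.2

/-- The points of the 180 transpositions, by number. -/
noncomputable def sPt (i : Fin 180) : Fin table.N := ⟨sPts.getD i 3510, sPts_lt i i.2⟩

theorem sPt_injective : Function.Injective sPt := by
  intro u v h
  have hu : (u : ℕ) < sPts.length := by rw [sPts_len]; exact u.2
  have hv : (v : ℕ) < sPts.length := by rw [sPts_len]; exact v.2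
  have e : sPts.getD u 3510 = sPts.getD v 3510 := congrArg Fin.val h
  rw [List.getD_eq_getElem _ _ hu, List.getD_eq_getElem _ _ hv, sPts_nodup.getElem_inj_iff] at e
  exact Fin.ext e

theorem exists_sPt {q : Fin table.N} (h : sPts.contains (q : ℕ) = true) : ∃ i, sPt i = q := by
  obtain ⟨i, hi, e⟩ := List.mem_iff_getElem.1 (List.contains_iff_mem.1 h)
  exact ⟨⟨i, sPts_len ▸ hi⟩, Fin.ext ((List.getD_eq_getElem _ _ hi).trans e)⟩

/-- The stabiliser of the two points. -/
noncomputable def stabC : Subgroup Fi22 :=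
  Subgroup.centralizer ({coding.gen 0, coding.gen 2} : Set Fi22)

theorem mem_stabC {g : Fi22} : g ∈ stabC ↔ hom g pt = pt ∧ hom g (gpt 2) = gpt 2 := by
  rw [fix_iff_commute, fix_iff_commute, dp_pt, ← gen_eq_dp 2 (by norm_num), stabC,
    Subgroup.mem_centralizer_iff]
  constructor
  · intro h
    exact ⟨(h _ (Or.inl rfl)).symm, (h _ (Or.inr rfl)).symm⟩
  · rintro ⟨h0, h1⟩ y (rfl | rfl)
    exacts [h0.eq.symm, h1.eq.symm]

theorem el_gW_mem {w : List ℕ} (hw : w ∈ gW) : el w ∈ stabC := by
  obtain ⟨h0, h6⟩ := gW_fix w hw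
  refine mem_stabC.2 ⟨Fin.ext ?_, Fin.ext ?_⟩
  · rw [el_img (gW_lt w hw)]; exact h0
  · rw [el_img (gW_lt w hw), gpt_two_val]; exact h6

theorem el_flatten_mem {H : Subgroup Fi22} : ∀ L : List ℕ,
    (∀ k, el (gW.getD k []) ∈ H) → el ((L.map fun k => gW.getD k []).flatten) ∈ H := by
  intro L h
  induction L with
  | nil => exact one_mem _
  | cons k t ih => rw [List.map_cons, List.flatten_cons, el_append]; exact mul_mem ih (h k)

theorem el_getD_mem {H : Subgroup Fi22} (h : ∀ w ∈ gW, el w ∈ H) (k : ℕ) : el (gW.getD k []) ∈ H := by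
  rcases Nat.lt_or_ge k gW.length with hk | hk
  · rw [List.getD_eq_getElem _ _ hk]; exact h _ (List.getElem_mem hk)
  · rw [List.getD_eq_default _ _ hk]; exact one_mem _

theorem card_stabC : Nat.card stabC = 26542080 := by
  classical
  have := finite
  obtain ⟨O₁, hO₁, e₁, hc₁⟩ := suborbit (b := 6) (by decide +kernel) FiData.search693_ok
  rw [show FiData.search693.length = 692 by decide +kernel] at hc₁
  have hmem : gpt 2 ∈ O₁ := by
    rw [e₁, PTab.mem_maskSet, gpt_two_val]
    decide +kernel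
  letI : MulAction grpH (Fin table.N) := MulAction.compHom _ (hom.comp grpH.subtype)
  have horb : MulAction.orbit grpH (gpt 2) = ↑O₁ := by
    rw [← Finset.mem_coe, hO₁] at hmem
    rw [hO₁, ← MulAction.orbit_eq_iff.2 hmem]
    ext u
    constructor
    · rintro ⟨h, rfl⟩
      exact ⟨⟨hom h.1, Subgroup.mem_map_of_mem hom h.2⟩, rfl⟩
    · rintro ⟨⟨π, hπ⟩, rfl⟩
      obtain ⟨h, hh, rfl⟩ := Subgroup.mem_map.1 hπ
      exact ⟨⟨h, hh⟩, rfl⟩
  have hidx : (MulAction.stabilizer grpH (gpt 2)).index = 693 := by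
    rw [MulAction.index_stabilizer, horb, Set.ncard_coe_finset, hc₁]
  have hst : (MulAction.stabilizer grpH (gpt 2)).map grpH.subtype = stabC := by
    ext g
    rw [Subgroup.mem_map, mem_stabC]
    constructor
    · rintro ⟨h, hh, rfl⟩
      exact ⟨hom_fix _ h.2, hh⟩
    · rintro ⟨h0, h1⟩
      exact ⟨⟨g, stab_le h0⟩, h1, rfl⟩
  have h := (MulAction.stabilizer grpH (gpt 2)).card_mul_index
  rw [hidx, ← Subgroup.card_map_of_injective grpH.subtype_injective, hst] at h
  have h2 : Nat.card grpH * 3510 = 64561751654400 := by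
    rw [← index_H_eq, Subgroup.card_mul_index, card_eq.1]
  omega

theorem stabC_eq : Subgroup.closure {x | ∃ w ∈ gW, x = el w} = stabC := by
  have := finite
  set K := Subgroup.closure {x | ∃ w ∈ gW, x = el w} with hK
  have hle : K ≤ stabC := (Subgroup.closure_le _).2 (by rintro _ ⟨w, hw, rfl⟩; exact el_gW_mem hw)
  refine Subgroup.eq_of_le_of_card_ge hle ?_
  have hA : table.Acts hom coding.gen := hom_acts
  have h := PTab.chainW_le_card hA ⊥ _ [] (K.map hom) chainC_ok (fun e he w hw _ => by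
    obtain ⟨e', -, rfl⟩ := List.mem_map.1 he
    obtain ⟨L, -, rfl⟩ := List.mem_map.1 hw
    exact Subgroup.mem_map_of_mem hom
      (el_flatten_mem L (el_getD_mem fun w hw => Subgroup.subset_closure ⟨w, hw, rfl⟩))) bot_le
    (fun e _ u _ z hz => by rw [Subgroup.mem_bot.1 hz, Equiv.Perm.one_apply])
  rw [Subgroup.card_bot, one_mul, chainC_prod, Subgroup.card_map_of_injective card_eq.2] at h
  rw [card_stabC]
  exact h

theorem stabC_trans (i : Fin 180) : ∃ k ∈ stabC, hom k (gpt 4) = sPt i := by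
  classical
  have h4 : (gpt 4 : ℕ) = 40 := gpt_val (by norm_num)
  obtain ⟨m, hm⟩ := Option.isSome_iff_exists.1 searchS_ok
  obtain ⟨hsub, hcard⟩ := PTab.bfsW_spec hom_acts (P := stabC.map hom) (W := gW.drop 2)
    (fun w hw => ⟨fun x hx => gW_lt w (List.mem_of_mem_drop hw) x hx,
      Subgroup.mem_map_of_mem hom (el_gW_mem (List.mem_of_mem_drop hw))⟩) (gpt 4) searchS _ m hm (by
      intro u hu
      rw [← h4, PTab.maskSet_two_pow, Finset.mem_singleton] at hu
      subst hu
      exact MulAction.mem_orbit_self _)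
  have hmem : ∀ u : Fin table.N, u ∈ table.maskSet m → ∃ i, sPt i = u := by
    have key : ∀ (L : List (ℕ × ℕ × ℕ)) (m₀ m₁ : ℕ), table.bfsW (gW.drop 2) L m₀ = some m₁ →
        L.all (fun e => sPts.contains e.1) = true →
        ∀ v, Nat.testBit m₁ v = true → Nat.testBit m₀ v = true ∨ sPts.contains v = true := by
      intro L
      induction L with
      | nil => intro m₀ m₁ h _ v hv; simp only [PTab.bfsW, Option.some.injEq] at h; rw [h]; exact Or.inl hv
      | cons e t ih =>
        obtain ⟨p, q, r⟩ := e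
        intro m₀ m₁ h hall v hv
        simp only [PTab.bfsW] at h
        simp only [List.all_cons, Bool.and_eq_true] at hall
        rcases hc : (Nat.blt r (gW.drop 2).length && Nat.testBit m₀ q && !Nat.testBit m₀ p &&
            Nat.blt p table.N && Nat.blt q table.N &&
              Nat.beq (table.imgW ((gW.drop 2).getD r []) q) p)
        · rw [hc] at h; simp at h
        · rw [hc] at h
          rcases ih _ _ h hall.2 v hv with h' | h'
          · rw [Nat.testBit_or, Bool.or_eq_true] at h'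
            rcases h' with h' | h'
            · exact Or.inl h'
            · rw [Nat.testBit_two_pow, decide_eq_true_eq] at h'
              exact Or.inr (h' ▸ hall.1)
          · exact Or.inr h'
    intro u hu
    rcases key _ _ _ hm searchS_sub u (PTab.mem_maskSet.1 hu) with h | h
    · rw [Nat.testBit_two_pow, decide_eq_true_eq] at h
      have : sPts.contains 40 = true := by decide +kernel
      exact exists_sPt (by rw [← h]; exact this)
    · exact exists_sPt h
  have hcard' : (table.maskSet m).card = 180 := by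
    rw [hcard, ← h4, PTab.maskSet_two_pow, Finset.card_singleton, searchS_len]
  have himg : table.maskSet m = Finset.univ.image sPt := by
    refine Finset.eq_of_subset_of_card_le (fun u hu => ?_) ?_
    · obtain ⟨i, rfl⟩ := hmem u hu
      exact Finset.mem_image_of_mem _ (Finset.mem_univ i)
    · rw [hcard', Finset.card_image_of_injective _ sPt_injective, Finset.card_univ, Fintype.card_fin]
  obtain ⟨⟨π, hπ⟩, he⟩ := hsub (sPt i) (himg ▸ Finset.mem_image_of_mem _ (Finset.mem_univ i))
  obtain ⟨k, hk, rfl⟩ := Subgroup.mem_map.1 hπ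
  exact ⟨k, hk, he⟩

theorem card_fix_dp (q : Fin table.N) :
    (Finset.univ.filter fun u => hom (dp q) u = u).card = 694 := by
  obtain ⟨c, rfl⟩ := transitive q
  have h0 : (Finset.univ.filter fun u => hom (coding.gen 0) u = u).card = 694 := by
    rw [card_fix (fun v => table.imgW [0] v) (hom (coding.gen 0)) (gen_img (by norm_num))]
    exact Nat.eq_of_beq_eq_true (List.all_eq_true.1 gen_fix 0 (List.mem_range.2 (by norm_num)))
  rw [← h0, ← conj_dp, dp_pt]
  refine Finset.card_bij (fun u _ => hom c⁻¹ u) (fun u hu => ?_) (fun a _ b _ e => (hom c⁻¹).injective e)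
    fun v hv => ⟨hom c v, ?_, hom_inv_apply c v⟩
  · simp only [Finset.mem_filter, Finset.mem_univ, true_and, map_mul, Equiv.Perm.mul_apply] at hu ⊢
    have h := congrArg (hom c⁻¹) hu
    rwa [hom_inv_apply] at h
  · simp only [Finset.mem_filter, Finset.mem_univ, true_and, map_mul, Equiv.Perm.mul_apply,
      hom_inv_apply] at hv ⊢
    rw [hv]

theorem pair_unique {p q : Fin table.N} (h : dp p * dp q = coding.gen 0 * coding.gen 2)
    (hc : Commute (dp p) (dp q)) : (p = pt ∧ q = gpt 2) ∨ (p = gpt 2 ∧ q = pt) := by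
  have hfix : hom (el [2, 0]) p = p := fix_iff_commute.2 (by
    rw [el_ac, ← h]; exact ((Commute.refl (dp p)).mul_left hc.symm))
  have hq : dp q = dp p * (coding.gen 0 * coding.gen 2) := by rw [← h, ← mul_assoc, dp_sq, one_mul]
  rw [Fin.ext_iff, el_img (by decide)] at hfix
  have hs := List.all_eq_true.1 prod_scan p.1 (List.mem_range.2 p.2)
  rw [Nat.beq_eq.mpr hfix] at hs
  simp only [Bool.not_true, Bool.false_or, Bool.or_eq_true] at hs
  rcases hs with (hs | hs) | hs
  · have hp : p = pt := Fin.ext (Nat.eq_of_beq_eq_true hs)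
    refine Or.inl ⟨hp, dp_injective ?_⟩
    rw [hq, hp, dp_pt, ← mul_assoc, gen_sq (by norm_num), one_mul, gen_eq_dp 2 (by norm_num)]
  · have hp : p = gpt 2 := Fin.ext ((Nat.eq_of_beq_eq_true hs).trans gpt_two_val.symm)
    refine Or.inr ⟨hp, dp_injective ?_⟩
    rw [hq, hp, ← gen_eq_dp 2 (by norm_num), ← mul_assoc, ← commute_ac.eq, mul_assoc,
      gen_sq (by norm_num), mul_one, dp_pt]
  · exfalso
    obtain ⟨i, rfl⟩ := exists_sPt hs
    obtain ⟨k, hk, hki⟩ := stabC_trans i
    have hc' : Commute k (coding.gen 0 * coding.gen 2) := by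
      have h' := Subgroup.mem_centralizer_iff.1 hk
      exact Commute.mul_right (h' _ (Or.inl rfl)).symm (h' _ (Or.inr rfl)).symm
    have e : k⁻¹ * dp q * k⁻¹⁻¹ = el [2, 0, 4] := by
      rw [hq, ← hki, ← conj_dp, inv_inv, ← gen_eq_dp 4 (by norm_num)]
      show k⁻¹ * (k * coding.gen 4 * k⁻¹ * (coding.gen 0 * coding.gen 2)) * k =
        1 * coding.gen 4 * coding.gen 0 * coding.gen 2
      rw [one_mul]
      calc k⁻¹ * (k * coding.gen 4 * k⁻¹ * (coding.gen 0 * coding.gen 2)) * k
          = coding.gen 4 * k⁻¹ * ((coding.gen 0 * coding.gen 2) * k) := by group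
        _ = coding.gen 4 * k⁻¹ * (k * (coding.gen 0 * coding.gen 2)) := by rw [hc'.eq]
        _ = _ := by group
    rw [conj_dp] at e
    have h694 := card_fix_dp (hom k⁻¹ q)
    rw [e, card_fix (fun v => table.imgW [2, 0, 4] v) (hom (el [2, 0, 4])) (fun u => el_img (by decide) u)] at h694
    exact fix_triple h694

/-- The inner automorphism of the product. -/
noncomputable def jA : MulAut Fi22 := MulAut.conj (coding.gen 0 * coding.gen 2)

theorem jA_eq : jA = autEl jW := by rw [jW, autEl_false, el_ac]; rfl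

/-- Its centraliser. -/
noncomputable def cenA : Subgroup (MulAut Fi22) := Subgroup.centralizer ({jA} : Set (MulAut Fi22))

theorem mem_cenA {β : MulAut Fi22} : β ∈ cenA ↔
    (autPerm β pt = pt ∧ autPerm β (gpt 2) = gpt 2) ∨ (autPerm β pt = gpt 2 ∧ autPerm β (gpt 2) = pt) := by
  have hb : β (coding.gen 0 * coding.gen 2) = dp (autPerm β pt) * dp (autPerm β (gpt 2)) := by
    rw [map_mul, ← autPerm_spec, ← autPerm_spec, dp_pt, ← gen_eq_dp 2 (by norm_num)]
  have hconj : β ∈ cenA ↔ β (coding.gen 0 * coding.gen 2) = coding.gen 0 * coding.gen 2 := by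
    rw [cenA, Subgroup.mem_centralizer_singleton_iff]
    have he : β * jA = MulAut.conj (β (coding.gen 0 * coding.gen 2)) * β := by
      refine MulEquiv.ext fun x => ?_
      show β (_ * x * _⁻¹) = _ * β x * _⁻¹
      rw [map_mul, map_mul, map_inv]
    rw [he, jA, mul_left_inj]
    exact ⟨fun h => conj_injective h, fun h => by rw [h]⟩
  rw [hconj, hb]
  constructor
  · intro h
    refine pair_unique h ?_
    rw [← autPerm_spec, ← autPerm_spec, dp_pt, ← gen_eq_dp 2 (by norm_num)]
    exact commute_ac.map β.toMonoidHom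
  · rintro (⟨h0, h1⟩ | ⟨h0, h1⟩) <;> rw [h0, h1, dp_pt, ← gen_eq_dp 2 (by norm_num)]
    exact commute_ac.eq.symm

/-- The generators of the centraliser. -/
noncomputable def cG (g : ℕ) : MulAut Fi22 := autEl (cGens.getD g noW)

theorem cG_lt (g : ℕ) : ∀ x ∈ (cGens.getD g noW).1, x < 9 := by
  rcases Nat.lt_or_ge g cGens.length with h | h
  · rw [List.getD_eq_getElem _ _ h]; exact cGens_lt _ (List.getElem_mem h)
  · rw [List.getD_eq_default _ _ h]; simp [noW]

theorem cG_mem (g : ℕ) : cG g ∈ cenA := by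
  rw [mem_cenA]
  rcases Nat.lt_or_ge g cGens.length with h | h
  · rcases cGens_pair (cGens[g]) (List.getElem_mem h) with ⟨h0, h6⟩ | ⟨h0, h6⟩
    all_goals rw [← List.getD_eq_getElem _ noW h] at h0 h6
    · refine Or.inl ⟨Fin.ext ?_, Fin.ext ?_⟩
      · rw [cG, autEl_img (cG_lt g)]; exact h0
      · rw [cG, autEl_img (cG_lt g), gpt_two_val]; exact h6
    · refine Or.inr ⟨Fin.ext ?_, Fin.ext ?_⟩
      · rw [cG, autEl_img (cG_lt g), gpt_two_val]; exact h0
      · rw [cG, autEl_img (cG_lt g), gpt_two_val]; exact h6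
  · refine Or.inl ⟨?_, ?_⟩ <;>
      rw [cG, List.getD_eq_default _ _ h, noW, autEl_false, el_nil, map_one, map_one, Equiv.Perm.one_apply]

/-- The automorphisms of the stabiliser. -/
noncomputable def innC : Subgroup (MulAut Fi22) := stabC.map MulAut.conj

theorem mem_innC {g : Fi22} (h0 : hom g pt = pt) (h1 : hom g (gpt 2) = gpt 2) :
    MulAut.conj g ∈ innC := ⟨g, mem_stabC.2 ⟨h0, h1⟩, rfl⟩

theorem card_two_cosets {G : Type*} [Group G] [Finite G] {H K : Subgroup G} (hle : H ≤ K) {u : G}
    (huK : u ∈ K) (hu : u ∉ H) (h : ∀ x ∈ K, x ∈ H ∨ x * u ∈ H) :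
    Nat.card K = 2 * Nat.card H := by
  have hidx : (H.subgroupOf K).index = 2 := by
    rw [Subgroup.index_eq_two_iff]
    refine ⟨⟨u, huK⟩, fun b => ?_⟩
    rw [Subgroup.mem_subgroupOf, Subgroup.mem_subgroupOf]
    rcases h b.1 b.2 with hb | hb
    · exact Or.inr ⟨hb, fun h' => hu ((Subgroup.mul_mem_cancel_left H hb).1 h')⟩
    · exact Or.inl ⟨hb, fun h' => hu ((Subgroup.mul_mem_cancel_left H h').1 hb)⟩
  have h2 := (H.subgroupOf K).card_mul_index
  rw [hidx, Nat.card_congr (Subgroup.subgroupOfEquivOfLe hle).toEquiv] at h2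
  omega

/-- The inner part of the centraliser. -/
noncomputable def innPart : Subgroup (MulAut Fi22) := cenA ⊓ (MulAut.conj : Fi22 →* MulAut Fi22).range

theorem cG_nine : cG 9 ∈ innPart ∧ cG 9 ∉ innC := by
  refine ⟨⟨cG_mem 9, ?_⟩, ?_⟩
  · refine ⟨el (cGens.getD 9 noW).1, ?_⟩
    have h : (cGens.getD 9 noW).2 = false := by decide +kernel
    rw [cG, autEl, h, cond_false, mul_one]
  · rintro ⟨g, hg, e⟩
    have h := (mem_stabC.1 hg).1
    rw [← autPerm_conj, e, Fin.ext_iff, cG, autEl_img (cG_lt 9)] at h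
    rw [show ((pt : Fin table.N) : ℕ) = 0 from rfl, swaps.1] at h
    exact absurd h (by norm_num)

theorem innC_le : innC ≤ innPart := by
  rintro _ ⟨g, hg, rfl⟩
  refine ⟨mem_cenA.2 (Or.inl ?_), ⟨g, rfl⟩⟩
  rw [autPerm_conj]
  exact mem_stabC.1 hg

theorem inn_cases : ∀ β ∈ innPart, β ∈ innC ∨ β * cG 9 ∈ innC := by
  rintro β hβ
  obtain ⟨hC, g, rfl⟩ := id hβ
  rcases mem_cenA.1 hC with ⟨h0, h1⟩ | ⟨h0, h1⟩
  · rw [autPerm_conj] at h0 h1
    exact Or.inl (mem_innC h0 h1)
  · right
    obtain ⟨-, e, he⟩ := cG_nine.1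
    rw [← he, ← map_mul]
    have h9 : autPerm (cG 9) pt = gpt 2 ∧ autPerm (cG 9) (gpt 2) = pt := by
      refine ⟨Fin.ext ?_, Fin.ext ?_⟩
      · rw [cG, autEl_img (cG_lt 9), gpt_two_val]; exact swaps.1
      · rw [cG, autEl_img (cG_lt 9), gpt_two_val]; exact swaps.2.1
    rw [← he, autPerm_conj] at h9
    rw [autPerm_conj] at h0 h1
    refine mem_innC ?_ ?_ <;> rw [map_mul, Equiv.Perm.mul_apply]
    · rw [h9.1, h1]
    · rw [h9.2, h0]

theorem cG_ten : cG 10 ∈ cenA ∧ cG 10 ∉ innPart := by
  refine ⟨cG_mem 10, fun h => sym_not_inner ?_⟩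
  have hb : (cGens.getD 10 noW).2 = true := by decide +kernel
  obtain ⟨g, hg⟩ := h.2
  rw [cG, autEl, hb, cond_true] at hg
  refine ⟨(el (cGens.getD 10 noW).1)⁻¹ * g, ?_⟩
  rw [map_mul, hg, map_inv, inv_mul_cancel_left]

theorem cen_cases : ∀ β ∈ cenA, β ∈ innPart ∨ β * cG 10 ∈ innPart := by
  intro β hβ
  rcases aut_form β with ⟨g, rfl | rfl⟩
  · exact Or.inl ⟨hβ, g, rfl⟩
  · right
    refine ⟨mul_mem hβ (cG_mem 10), ?_⟩
    have hb : (cGens.getD 10 noW).2 = true := by decide +kernel
    refine ⟨sym (g * el (cGens.getD 10 noW).1), MulEquiv.ext fun x => ?_⟩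
    rw [cG, autEl, hb, cond_true]
    show _ * x * _⁻¹ = sym (g * (el _ * sym x * (el _)⁻¹) * g⁻¹)
    have hss : sym (sym x) = x := symHom_sq x
    simp only [map_mul, map_inv, hss]
    group

theorem card_cenA : Nat.card cenA = 106168320 := by
  have := finite
  have : Finite (MulAut Fi22) := Finite.of_injective autPerm autPerm_injective
  have h1 : Nat.card innPart = 2 * Nat.card innC :=
    card_two_cosets innC_le cG_nine.1 cG_nine.2 inn_cases
  have h2 : Nat.card cenA = 2 * Nat.card innPart :=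
    card_two_cosets inf_le_left cG_ten.1 cG_ten.2 cen_cases
  rw [h2, h1, innC, Subgroup.card_map_of_injective conj_injective, card_stabC]

theorem cenA_gen : Subgroup.closure (cG '' {g | g < 11}) = cenA := by
  set K := Subgroup.closure (cG '' {g | g < 11}) with hK
  refine le_antisymm ((Subgroup.closure_le _).2 (by rintro _ ⟨g, -, rfl⟩; exact cG_mem g)) fun β hβ => ?_
  have hmem : ∀ g < 11, cG g ∈ K := fun g hg => Subgroup.subset_closure ⟨g, hg, rfl⟩
  have hi : innC ≤ K := by
    rw [innC, ← stabC_eq, MonoidHom.map_closure, Subgroup.closure_le]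
    rintro _ ⟨_, ⟨w, hw, rfl⟩, rfl⟩
    obtain ⟨i, hi, rfl⟩ := List.mem_iff_getElem.1 hw
    have key : ∀ k < 9, cGens.getD k noW = (gW.getD k [], false) := by decide +kernel
    have hi' : i < 9 := hi
    have h := hmem i (by omega)
    rwa [cG, key i hi', autEl_false, List.getD_eq_getElem _ _ hi] at h
  have back : ∀ (γ u : MulAut Fi22), u ∈ K → γ * u ∈ K → γ ∈ K := fun γ u hu h => by
    have := mul_mem h (inv_mem hu)
    rwa [mul_inv_cancel_right] at this
  have hip : innPart ≤ K := fun γ hγ => by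
    rcases inn_cases γ hγ with h | h
    · exact hi h
    · exact back γ _ (hmem 9 (by norm_num)) (hi h)
  rcases cen_cases β hβ with h | h
  · exact hip h
  · exact back β _ (hmem 10 (by norm_num)) (hip h)

end CfsgLib.Sporadic.FiTransfer.PairTwo
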